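import Cfsg.Agent.Lib.Cert.Co3.M
import Cfsg.Agent.Lib.Cert.Sch2

set_option autoImplicit false
set_option maxRecDepth 100000

namespace Cfsg.Agent.Ct.Co3s.S2

open Cfsg.Agent.PC

open Cfsg.Agent.Fi Cfsg.Agent.Ct
def W_t : TL := (TL.node (TL.node (TL.node (TL.node (TL.node (TL.leaf []) (TL.leaf [nat_lit 0, nat_lit 1, nat_lit 2, nat_lit 3, nat_lit 0, nat_lit 2, nat_lit 0, nat_lit 3, nat_lit 2, nat_lit 1, nat_lit 0, nat_lit 3, nat_lit 2, nat_lit 3, nat_lit 2, nat_lit 3, nat_lit 0, nat_lit 3, nat_lit 1, nat_lit 3, nat_lit 1, nat_lit 3, nat_lit 0, nat_lit 3, nat_lit 2, nat_lit 3, nat_lit 2, nat_lit 1, nat_lit 2, nat_lit 1, nat_lit 0, nat_lit 1, nat_lit 2, nat_lit 1, nat_lit 3, nat_lit 1, nat_lit 0, nat_lit 3, nat_lit 1, nat_lit 0, nat_lit 2, nat_lit 3, nat_lit 1, nat_lit 3, nat_lit 1, nat_lit 3, nat_lit 1, nat_lit 3, nat_lit 2, nat_lit 3, nat_lit 1, nat_lit 0, nat_lit 2, nat_lit 1, nat_lit 3, nat_lit 1, nat_lit 3, nat_lit 2, nat_lit 1, nat_lit 2, nat_lit 1, nat_lit 2])) (TL.leaf [nat_lit 0, nat_lit 1, nat_lit 0, nat_lit 3,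 nat_lit 1, nat_lit 3, nat_lit 1, nat_lit 3, nat_lit 0, nat_lit 3, nat_lit 0, nat_lit 1, nat_lit 0, nat_lit 3, nat_lit 1, nat_lit 2, nat_lit 1, nat_lit 0, nat_lit 2, nat_lit 0, nat_lit 1, nat_lit 3, nat_lit 1, nat_lit 2, nat_lit 0, nat_lit 2, nat_lit 3, nat_lit 2, nat_lit 3, nat_lit 2, nat_lit 0, nat_lit 1, nat_lit 3, nat_lit 1, nat_lit 3, nat_lit 0, nat_lit 2, nat_lit 0, nat_lit 2, nat_lit 1, nat_lit 3, nat_lit 1, nat_lit 0, nat_lit 3, nat_lit 1, nat_lit 0, nat_lit 3, nat_lit 1, nat_lit 3, nat_lit 0, nat_lit 3, nat_lit 2, nat_lit 0, nat_lit 2, nat_lit 3, nat_lit 2, nat_lit 3, nat_lit 2, nat_lit 0, nat_lit 2, nat_lit 0, nat_lit 1, nat_lit 0, nat_lit 1, nat_lit 3, nat_lit 1, nat_lit 0, nat_lit 1, nat_lit 3, nat_lit 1, nat_lit 2, nat_lit 1, nat_lit 3, nat_lit 1, nat_lit 2, nat_lit 1, nat_lit 0, nat_lit 2])) (TL.node (TL.node (TL.leaf [nat_lit 2, nat_lit 0, nat_lit 2, nat_lit 0, nat_lit 1, nat_lit 0, nat_lit 3, nat_lit 2, nat_lit 1, nat_lit 3, nat_lit 1, nat_lit 2, nat_lit 1, nat_lit 3, nat_lit 1, nat_lit 2, nat_lit 3, nat_lit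 0, nat_lit 1, nat_lit 0, nat_lit 2, nat_lit 0, nat_lit 2, nat_lit 1, nat_lit 3, nat_lit 2, nat_lit 3, nat_lit 0, nat_lit 3, nat_lit 0, nat_lit 3, nat_lit 2, nat_lit 0, nat_lit 1, nat_lit 2, nat_lit 3, nat_lit 1, nat_lit 3, nat_lit 0, nat_lit 2, nat_lit 1, nat_lit 2, nat_lit 1, nat_lit 3, nat_lit 1, nat_lit 3, nat_lit 2, nat_lit 3, nat_lit 0, nat_lit 3, nat_lit 0, nat_lit 3, nat_lit 2, nat_lit 1, nat_lit 3, nat_lit 0, nat_lit 1, nat_lit 0, nat_lit 1, nat_lit 2, nat_lit 1, nat_lit 3, nat_lit 0, nat_lit 3, nat_lit 0, nat_lit 3, nat_lit 0, nat_lit 1, nat_lit 3, nat_lit 2, nat_lit 0]) (TL.leaf [nat_lit 0, nat_lit 1, nat_lit 0, nat_lit 1, nat_lit 3, nat_lit 1, nat_lit 0, nat_lit 1, nat_lit 0, nat_lit 3, nat_lit 1, nat_lit 2, nat_lit 1, nat_lit 0, nat_lit 1, nat_lit 2, nat_lit 3, nat_lit 1, nat_lit 3, nat_lit 2, nat_lit 3, nat_lit 1, nat_lit 3, nat_lit 1, nat_lit 2, nat_lit 1, nat_lit 2, nat_lit 1, nat_lit 0, nat_lit 2, nat_lit 0, nat_lit 1, nat_lit 2, nat_lit 1, nat_lit 2, nat_lit 3, nat_lit 0, nat_lit 1, nat_lit 2, nat_lit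 3, nat_lit 0, nat_lit 2, nat_lit 0, nat_lit 3, nat_lit 2, nat_lit 1, nat_lit 3, nat_lit 1, nat_lit 3, nat_lit 1, nat_lit 3, nat_lit 0, nat_lit 3, nat_lit 2, nat_lit 3, nat_lit 2, nat_lit 3, nat_lit 0, nat_lit 2, nat_lit 0, nat_lit 1, nat_lit 3, nat_lit 0, nat_lit 1, nat_lit 0, nat_lit 1, nat_lit 0, nat_lit 1, nat_lit 3, nat_lit 1, nat_lit 0, nat_lit 2, nat_lit 0, nat_lit 2, nat_lit 0, nat_lit 3, nat_lit 2, nat_lit 1, nat_lit 3, nat_lit 0, nat_lit 1, nat_lit 2, nat_lit 1])) (TL.leaf [nat_lit 0, nat_lit 2, nat_lit 3, nat_lit 1, nat_lit 3, nat_lit 2, nat_lit 3, nat_lit 2, nat_lit 3, nat_lit 1, nat_lit 3, nat_lit 2, nat_lit 0, nat_lit 1, nat_lit 3, nat_lit 2, nat_lit 3, nat_lit 1, nat_lit 3, nat_lit 0, nat_lit 3, nat_lit 1, nat_lit 3, nat_lit 2, nat_lit 3, nat_lit 1, nat_lit 2, nat_lit 0, nat_lit 2, nat_lit 3, nat_lit 2, nat_lit 3, nat_lit 2, nat_lit 0, nat_lit 3, nat_lit 2, nat_lit 1, nat_lit 3, nat_lit 1, nat_lit 2, nat_lit 0, nat_lit 1, nat_lit 0, nat_lit 1, nat_lit 0, nat_lit 2, nat_lit 1, nat_lit 3, nat_lit 1, nat_lit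 2, nat_lit 0, nat_lit 1, nat_lit 2, nat_lit 0, nat_lit 2, nat_lit 1, nat_lit 0, nat_lit 2, nat_lit 3, nat_lit 1, nat_lit 2, nat_lit 3, nat_lit 0, nat_lit 3, nat_lit 0, nat_lit 2, nat_lit 1, nat_lit 0, nat_lit 3, nat_lit 1, nat_lit 0, nat_lit 3, nat_lit 0, nat_lit 3, nat_lit 2, nat_lit 3, nat_lit 1, nat_lit 3, nat_lit 1, nat_lit 3, nat_lit 0, nat_lit 1, nat_lit 3, nat_lit 0, nat_lit 2, nat_lit 1, nat_lit 3, nat_lit 2, nat_lit 1]))) (TL.node (TL.node (TL.node (TL.leaf [nat_lit 2, nat_lit 0, nat_lit 2, nat_lit 3, nat_lit 2, nat_lit 3, nat_lit 2, nat_lit 0, nat_lit 2, nat_lit 3, nat_lit 1, nat_lit 2, nat_lit 1, nat_lit 0, nat_lit 1, nat_lit 3, nat_lit 0, nat_lit 3, nat_lit 0, nat_lit 2, nat_lit 3, nat_lit 0, nat_lit 3, nat_lit 0, nat_lit 2, nat_lit 1, nat_lit 0, nat_lit 1, nat_lit 2, nat_lit 3, nat_lit 0, nat_lit 3, nat_lit 0, nat_lit 2, nat_lit 1, nat_lit 3, nat_lit 1, nat_lit 0, nat_lit 3, nat_lit 0, nat_lit 3, nat_lit 0, nat_lit 1, nat_lit 3, nat_lit 0, nat_lit 1, nat_lit 3, nat_lit 1, nat_lit 2, nat_lit 3, nat_lit 0, nat_lit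 1, nat_lit 0, nat_lit 3, nat_lit 0, nat_lit 3, nat_lit 2, nat_lit 1, nat_lit 0, nat_lit 3, nat_lit 1, nat_lit 0, nat_lit 2, nat_lit 0, nat_lit 1, nat_lit 3, nat_lit 0]) (TL.leaf [nat_lit 0, nat_lit 2, nat_lit 3, nat_lit 1, nat_lit 3, nat_lit 2, nat_lit 3, nat_lit 2, nat_lit 3, nat_lit 1, nat_lit 3, nat_lit 2, nat_lit 0, nat_lit 1, nat_lit 3, nat_lit 2, nat_lit 3, nat_lit 1, nat_lit 3, nat_lit 0, nat_lit 3, nat_lit 1, nat_lit 3, nat_lit 2, nat_lit 3, nat_lit 1, nat_lit 2, nat_lit 0, nat_lit 1, nat_lit 2, nat_lit 0, nat_lit 2, nat_lit 1, nat_lit 0, nat_lit 2, nat_lit 1, nat_lit 3, nat_lit 2, nat_lit 3, nat_lit 0, nat_lit 1, nat_lit 0, nat_lit 2, nat_lit 0, nat_lit 1, nat_lit 0, nat_lit 3, nat_lit 0, nat_lit 1, nat_lit 0, nat_lit 2, nat_lit 0, nat_lit 1, nat_lit 0, nat_lit 3, nat_lit 2, nat_lit 3, nat_lit 1, nat_lit 3, nat_lit 0, nat_lit 3, nat_lit 0, nat_lit 1, nat_lit 3, nat_lit 2, nat_lit 1, nat_lit 0, nat_lit 1, nat_lit 3, nat_lit 1, nat_lit 0, nat_lit 2, nat_lit 0, nat_lit 2, nat_lit 0, nat_lit 2, nat_lit 1, nat_lit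 2, nat_lit 1, nat_lit 3, nat_lit 0, nat_lit 3, nat_lit 2, nat_lit 3, nat_lit 2, nat_lit 3, nat_lit 0, nat_lit 2, nat_lit 3])) (TL.leaf [nat_lit 3, nat_lit 1, nat_lit 2, nat_lit 1, nat_lit 3, nat_lit 0, nat_lit 2, nat_lit 0, nat_lit 1, nat_lit 0, nat_lit 1, nat_lit 0, nat_lit 1, nat_lit 2, nat_lit 1, nat_lit 2, nat_lit 3, nat_lit 1, nat_lit 0, nat_lit 2, nat_lit 3, nat_lit 2, nat_lit 0, nat_lit 1, nat_lit 3, nat_lit 1, nat_lit 3, nat_lit 2, nat_lit 3, nat_lit 1, nat_lit 3, nat_lit 1, nat_lit 3, nat_lit 2, nat_lit 0, nat_lit 3, nat_lit 1, nat_lit 0, nat_lit 1, nat_lit 3, nat_lit 1, nat_lit 0, nat_lit 1, nat_lit 3, nat_lit 0, nat_lit 3, nat_lit 2, nat_lit 1, nat_lit 3, nat_lit 1, nat_lit 2, nat_lit 3, nat_lit 0, nat_lit 2, nat_lit 3, nat_lit 2, nat_lit 3, nat_lit 2, nat_lit 0, nat_lit 2, nat_lit 3, nat_lit 1, nat_lit 2, nat_lit 3, nat_lit 0, nat_lit 3, nat_lit 0, nat_lit 2, nat_lit 1, nat_lit 3, nat_lit 1, nat_lit 0, nat_lit 1, nat_lit 0, nat_lit 2, nat_lit 0, nat_lit 2, nat_lit 3, nat_lit 1, nat_lit 3, nat_lit 1, nat_lit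 2, nat_lit 3, nat_lit 2, nat_lit 3, nat_lit 2, nat_lit 3, nat_lit 2, nat_lit 1, nat_lit 0, nat_lit 1, nat_lit 0])) (TL.node (TL.node (TL.leaf [nat_lit 3, nat_lit 0, nat_lit 1, nat_lit 2, nat_lit 0, nat_lit 3, nat_lit 0, nat_lit 3, nat_lit 2, nat_lit 0, nat_lit 3, nat_lit 0, nat_lit 3, nat_lit 1, nat_lit 0, nat_lit 1, nat_lit 2, nat_lit 1, nat_lit 3, nat_lit 2, nat_lit 0, nat_lit 1, nat_lit 2, nat_lit 0, nat_lit 2, nat_lit 1, nat_lit 0, nat_lit 2, nat_lit 3, nat_lit 1, nat_lit 2, nat_lit 1, nat_lit 0, nat_lit 1, nat_lit 2, nat_lit 3, nat_lit 0, nat_lit 3, nat_lit 0, nat_lit 2, nat_lit 1, nat_lit 0, nat_lit 3, nat_lit 0, nat_lit 1, nat_lit 0, nat_lit 1, nat_lit 3, nat_lit 1, nat_lit 0, nat_lit 1, nat_lit 0, nat_lit 3, nat_lit 0, nat_lit 3, nat_lit 1, nat_lit 3, nat_lit 2, nat_lit 3, nat_lit 1, nat_lit 0, nat_lit 2, nat_lit 0, nat_lit 1, nat_lit 0, nat_lit 1, nat_lit 0, nat_lit 3, nat_lit 2, nat_lit 3, nat_lit 1, nat_lit 3, nat_lit 1, nat_lit 3]) (TL.leaf [nat_lit 2, nat_lit 0, nat_lit 2, nat_lit 3, nat_lit 2, nat_lit 3,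 nat_lit 2, nat_lit 0, nat_lit 2, nat_lit 3, nat_lit 1, nat_lit 2, nat_lit 1, nat_lit 0, nat_lit 1, nat_lit 3, nat_lit 0, nat_lit 3, nat_lit 0, nat_lit 2, nat_lit 3, nat_lit 0, nat_lit 3, nat_lit 0, nat_lit 2, nat_lit 1, nat_lit 0, nat_lit 3, nat_lit 0, nat_lit 1, nat_lit 2, nat_lit 3, nat_lit 0, nat_lit 2, nat_lit 0, nat_lit 3, nat_lit 2, nat_lit 1, nat_lit 3, nat_lit 1, nat_lit 3, nat_lit 1, nat_lit 3, nat_lit 0, nat_lit 3, nat_lit 2, nat_lit 3, nat_lit 2, nat_lit 3, nat_lit 0, nat_lit 3, nat_lit 1, nat_lit 3, nat_lit 1, nat_lit 3, nat_lit 0, nat_lit 3, nat_lit 1, nat_lit 2, nat_lit 1, nat_lit 0, nat_lit 1, nat_lit 2, nat_lit 1, nat_lit 2, nat_lit 0, nat_lit 1, nat_lit 3, nat_lit 0, nat_lit 3, nat_lit 2, nat_lit 0, nat_lit 2, nat_lit 3, nat_lit 0, nat_lit 3, nat_lit 1, nat_lit 3, nat_lit 2, nat_lit 1, nat_lit 0, nat_lit 2, nat_lit 1, nat_lit 2, nat_lit 0, nat_lit 1])) (TL.leaf [nat_lit 0, nat_lit 2, nat_lit 0, nat_lit 1, nat_lit 0, nat_lit 3, nat_lit 1, nat_lit 0, nat_lit 2, nat_lit 0, nat_lit 1, nat_lit 3, nat_lit 1,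 nat_lit 3, nat_lit 2, nat_lit 3, nat_lit 2, nat_lit 3, nat_lit 1, nat_lit 3, nat_lit 1, nat_lit 0, nat_lit 2, nat_lit 0, nat_lit 1, nat_lit 3, nat_lit 0, nat_lit 1, nat_lit 0, nat_lit 2, nat_lit 1, nat_lit 0, nat_lit 1, nat_lit 3, nat_lit 1, nat_lit 0, nat_lit 1, nat_lit 0, nat_lit 3, nat_lit 0, nat_lit 3, nat_lit 1, nat_lit 3, nat_lit 0, nat_lit 1, nat_lit 3, nat_lit 0, nat_lit 1, nat_lit 3, nat_lit 1, nat_lit 2, nat_lit 0, nat_lit 2, nat_lit 0, nat_lit 3, nat_lit 1, nat_lit 3, nat_lit 1, nat_lit 2, nat_lit 1, nat_lit 3, nat_lit 0, nat_lit 1, nat_lit 3, nat_lit 0, nat_lit 1, nat_lit 3, nat_lit 0, nat_lit 3, nat_lit 0, nat_lit 1, nat_lit 3, nat_lit 1, nat_lit 2, nat_lit 1, nat_lit 0, nat_lit 3, nat_lit 0, nat_lit 3, nat_lit 2, nat_lit 3, nat_lit 1, nat_lit 0, nat_lit 2, nat_lit 3, nat_lit 0, nat_lit 2, nat_lit 3, nat_lit 0])))) (TL.node (TL.node (TL.node (TL.node (TL.leaf [nat_lit 3, nat_lit 1, nat_lit 2, nat_lit 1, nat_lit 0, nat_lit 1, nat_lit 3, nat_lit 0, nat_lit 3, nat_lit 0, nat_lit 2, nat_lit 3, nat_lit 0, nat_lit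 3, nat_lit 0, nat_lit 2, nat_lit 1, nat_lit 0, nat_lit 3, nat_lit 0, nat_lit 1, nat_lit 0, nat_lit 1, nat_lit 3, nat_lit 1, nat_lit 0, nat_lit 1, nat_lit 0, nat_lit 2, nat_lit 0, nat_lit 1, nat_lit 2, nat_lit 0, nat_lit 2, nat_lit 1, nat_lit 0, nat_lit 1, nat_lit 2, nat_lit 1, nat_lit 3, nat_lit 2, nat_lit 0, nat_lit 1, nat_lit 0, nat_lit 1, nat_lit 0, nat_lit 2, nat_lit 3, nat_lit 1, nat_lit 2, nat_lit 1, nat_lit 2, nat_lit 0, nat_lit 1, nat_lit 2, nat_lit 3, nat_lit 0, nat_lit 2, nat_lit 0, nat_lit 3, nat_lit 2, nat_lit 1, nat_lit 0, nat_lit 2, nat_lit 0, nat_lit 2, nat_lit 3, nat_lit 2, nat_lit 3, nat_lit 2, nat_lit 0, nat_lit 2, nat_lit 1, nat_lit 3, nat_lit 1, nat_lit 0, nat_lit 2, nat_lit 0, nat_lit 1, nat_lit 3, nat_lit 0, nat_lit 3, nat_lit 0, nat_lit 3, nat_lit 2, nat_lit 3, nat_lit 1, nat_lit 2, nat_lit 1, nat_lit 2, nat_lit 0, nat_lit 2, nat_lit 1, nat_lit 3, nat_lit 0, nat_lit 2, nat_lit 3, nat_lit 0, nat_lit 2]) (TL.leaf [nat_lit 1, nat_lit 0, nat_lit 3, nat_lit 0, nat_lit 1, nat_lit 2, nat_lit 0, nat_lit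 2, nat_lit 3, nat_lit 2, nat_lit 3, nat_lit 2, nat_lit 0, nat_lit 2, nat_lit 1, nat_lit 0, nat_lit 3, nat_lit 0, nat_lit 1, nat_lit 2, nat_lit 0, nat_lit 1, nat_lit 2, nat_lit 0, nat_lit 2, nat_lit 1, nat_lit 0, nat_lit 2, nat_lit 3, nat_lit 1, nat_lit 2, nat_lit 1, nat_lit 0, nat_lit 1, nat_lit 2, nat_lit 1, nat_lit 3, nat_lit 2, nat_lit 0, nat_lit 1, nat_lit 2, nat_lit 0, nat_lit 2, nat_lit 1, nat_lit 0, nat_lit 2, nat_lit 3, nat_lit 1, nat_lit 2, nat_lit 3, nat_lit 0, nat_lit 3, nat_lit 0, nat_lit 2, nat_lit 1, nat_lit 2, nat_lit 0, nat_lit 1, nat_lit 3, nat_lit 0, nat_lit 3, nat_lit 2, nat_lit 0, nat_lit 3, nat_lit 1, nat_lit 2, nat_lit 0, nat_lit 2, nat_lit 0, nat_lit 3, nat_lit 2, nat_lit 3, nat_lit 2, nat_lit 0, nat_lit 2, nat_lit 1])) (TL.leaf [nat_lit 3, nat_lit 1, nat_lit 3, nat_lit 1, nat_lit 3, nat_lit 2, nat_lit 3, nat_lit 1, nat_lit 3, nat_lit 1, nat_lit 0, nat_lit 2, nat_lit 3, nat_lit 2, nat_lit 0, nat_lit 1, nat_lit 3, nat_lit 2, nat_lit 1, nat_lit 2, nat_lit 1, nat_lit 0, nat_lit 1, nat_lit 0, nat_lit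 1, nat_lit 0, nat_lit 2, nat_lit 0, nat_lit 3, nat_lit 1, nat_lit 2, nat_lit 1, nat_lit 3, nat_lit 2, nat_lit 0, nat_lit 1, nat_lit 2, nat_lit 0, nat_lit 2, nat_lit 1, nat_lit 0, nat_lit 2, nat_lit 1, nat_lit 0, nat_lit 2, nat_lit 3, nat_lit 2, nat_lit 0, nat_lit 3, nat_lit 1, nat_lit 0, nat_lit 2, nat_lit 0, nat_lit 1, nat_lit 3, nat_lit 1, nat_lit 3, nat_lit 1, nat_lit 2, nat_lit 1, nat_lit 3, nat_lit 0, nat_lit 1, nat_lit 3, nat_lit 2, nat_lit 3, nat_lit 1, nat_lit 0, nat_lit 3, nat_lit 2, nat_lit 0, nat_lit 2, nat_lit 0, nat_lit 2, nat_lit 1, nat_lit 0, nat_lit 1, nat_lit 3, nat_lit 2, nat_lit 3, nat_lit 2, nat_lit 1])) (TL.node (TL.node (TL.leaf [nat_lit 0, nat_lit 1, nat_lit 0, nat_lit 3, nat_lit 1, nat_lit 3, nat_lit 1, nat_lit 3, nat_lit 2, nat_lit 3, nat_lit 2, nat_lit 0, nat_lit 3, nat_lit 1, nat_lit 0, nat_lit 2, nat_lit 3, nat_lit 2, nat_lit 0, nat_lit 1, nat_lit 3, nat_lit 1, nat_lit 3, nat_lit 0, nat_lit 3, nat_lit 0, nat_lit 2, nat_lit 1, nat_lit 0, nat_lit 3, nat_lit 0, nat_lit 1, nat_lit 2, nat_lit 3,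 nat_lit 0, nat_lit 2, nat_lit 0, nat_lit 3, nat_lit 2, nat_lit 1, nat_lit 3, nat_lit 1, nat_lit 3, nat_lit 1, nat_lit 3, nat_lit 0, nat_lit 3, nat_lit 2, nat_lit 3, nat_lit 2, nat_lit 3, nat_lit 0, nat_lit 3, nat_lit 1, nat_lit 3, nat_lit 1, nat_lit 3, nat_lit 0, nat_lit 3, nat_lit 1, nat_lit 3, nat_lit 2, nat_lit 1, nat_lit 0, nat_lit 2, nat_lit 1, nat_lit 3, nat_lit 1, nat_lit 3, nat_lit 1, nat_lit 3, nat_lit 0, nat_lit 3, nat_lit 1, nat_lit 2, nat_lit 1, nat_lit 0, nat_lit 1, nat_lit 2, nat_lit 1, nat_lit 3, nat_lit 1, nat_lit 0, nat_lit 1, nat_lit 0, nat_lit 2, nat_lit 3, nat_lit 1, nat_lit 3, nat_lit 1, nat_lit 2]) (TL.leaf [nat_lit 2, nat_lit 0, nat_lit 2, nat_lit 3, nat_lit 2, nat_lit 3, nat_lit 2, nat_lit 0, nat_lit 2, nat_lit 3, nat_lit 1, nat_lit 2, nat_lit 1, nat_lit 0, nat_lit 1, nat_lit 3, nat_lit 0, nat_lit 3, nat_lit 0, nat_lit 2, nat_lit 3, nat_lit 0, nat_lit 3, nat_lit 0, nat_lit 2, nat_lit 1, nat_lit 0, nat_lit 1, nat_lit 3, nat_lit 0, nat_lit 3, nat_lit 0, nat_lit 1, nat_lit 3, nat_lit 1, nat_lit 3,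 nat_lit 2, nat_lit 3, nat_lit 1, nat_lit 3, nat_lit 1, nat_lit 2, nat_lit 1, nat_lit 0, nat_lit 1, nat_lit 2, nat_lit 1, nat_lit 0, nat_lit 1, nat_lit 2, nat_lit 1, nat_lit 3, nat_lit 0, nat_lit 2, nat_lit 0, nat_lit 1, nat_lit 0, nat_lit 1, nat_lit 0, nat_lit 1, nat_lit 0, nat_lit 2, nat_lit 3, nat_lit 2, nat_lit 1, nat_lit 2, nat_lit 0, nat_lit 1, nat_lit 2, nat_lit 1, nat_lit 0])) (TL.leaf [nat_lit 0, nat_lit 1, nat_lit 0, nat_lit 3, nat_lit 1, nat_lit 3, nat_lit 2, nat_lit 3, nat_lit 2, nat_lit 0, nat_lit 1, nat_lit 2, nat_lit 3, nat_lit 1, nat_lit 3, nat_lit 2, nat_lit 1, nat_lit 0, nat_lit 2, nat_lit 1, nat_lit 0, nat_lit 3, nat_lit 0, nat_lit 3, nat_lit 2, nat_lit 0, nat_lit 2, nat_lit 1, nat_lit 3, nat_lit 2, nat_lit 3, nat_lit 1, nat_lit 3, nat_lit 2, nat_lit 3, nat_lit 2, nat_lit 0, nat_lit 3, nat_lit 1, nat_lit 0, nat_lit 1, nat_lit 0, nat_lit 3, nat_lit 0, nat_lit 1, nat_lit 0, nat_lit 1, nat_lit 3, nat_lit 2, nat_lit 1, nat_lit 0, nat_lit 3, nat_lit 0, nat_lit 1, nat_lit 0, nat_lit 2, nat_lit 0, nat_lit 1,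 nat_lit 0, nat_lit 1, nat_lit 3, nat_lit 0, nat_lit 3, nat_lit 2, nat_lit 0, nat_lit 3, nat_lit 2, nat_lit 0, nat_lit 2, nat_lit 1, nat_lit 2, nat_lit 0, nat_lit 1]))) (TL.node (TL.node (TL.node (TL.leaf [nat_lit 3, nat_lit 0, nat_lit 3, nat_lit 0, nat_lit 1, nat_lit 0, nat_lit 3, nat_lit 0, nat_lit 3, nat_lit 1, nat_lit 0, nat_lit 3, nat_lit 1, nat_lit 0, nat_lit 1, nat_lit 0, nat_lit 3, nat_lit 1, nat_lit 2, nat_lit 3, nat_lit 0, nat_lit 3, nat_lit 0, nat_lit 3, nat_lit 2, nat_lit 3, nat_lit 1, nat_lit 2, nat_lit 0, nat_lit 1, nat_lit 2, nat_lit 0, nat_lit 2, nat_lit 1, nat_lit 0, nat_lit 1, nat_lit 2, nat_lit 1, nat_lit 3, nat_lit 2, nat_lit 0, nat_lit 1, nat_lit 0, nat_lit 1, nat_lit 0, nat_lit 2, nat_lit 3, nat_lit 1, nat_lit 2, nat_lit 1, nat_lit 2, nat_lit 1, nat_lit 3, nat_lit 0, nat_lit 1, nat_lit 3, nat_lit 0, nat_lit 1, nat_lit 3, nat_lit 0, nat_lit 3, nat_lit 0, nat_lit 1, nat_lit 2, nat_lit 0, nat_lit 2, nat_lit 1, nat_lit 3, nat_lit 2, nat_lit 3, nat_lit 1, nat_lit 2, nat_lit 0, nat_lit 2, nat_lit 1, nat_lit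 2, nat_lit 3, nat_lit 2, nat_lit 0, nat_lit 1, nat_lit 2, nat_lit 3, nat_lit 0, nat_lit 3, nat_lit 2, nat_lit 0, nat_lit 2, nat_lit 1, nat_lit 3, nat_lit 0, nat_lit 3, nat_lit 1, nat_lit 2, nat_lit 0, nat_lit 2]) (TL.leaf [nat_lit 2, nat_lit 0, nat_lit 1, nat_lit 2, nat_lit 0, nat_lit 2, nat_lit 1, nat_lit 0, nat_lit 2, nat_lit 0, nat_lit 1, nat_lit 2, nat_lit 3, nat_lit 0, nat_lit 2, nat_lit 0, nat_lit 3, nat_lit 2, nat_lit 1, nat_lit 0, nat_lit 2, nat_lit 0, nat_lit 1, nat_lit 2, nat_lit 0, nat_lit 2, nat_lit 1, nat_lit 0, nat_lit 2, nat_lit 3, nat_lit 1, nat_lit 3, nat_lit 0, nat_lit 3, nat_lit 0, nat_lit 1, nat_lit 3, nat_lit 1, nat_lit 3, nat_lit 2, nat_lit 3, nat_lit 1, nat_lit 3, nat_lit 1, nat_lit 0, nat_lit 3, nat_lit 0, nat_lit 3, nat_lit 2, nat_lit 3, nat_lit 0, nat_lit 3, nat_lit 0, nat_lit 2, nat_lit 1, nat_lit 3, nat_lit 1, nat_lit 3, nat_lit 1, nat_lit 0, nat_lit 2, nat_lit 0, nat_lit 1, nat_lit 3, nat_lit 0, nat_lit 3, nat_lit 0, nat_lit 3, nat_lit 2, nat_lit 3, nat_lit 1, nat_lit 3, nat_lit 0, nat_lit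 3])) (TL.leaf [nat_lit 3, nat_lit 1, nat_lit 2, nat_lit 1, nat_lit 0, nat_lit 1, nat_lit 3, nat_lit 0, nat_lit 3, nat_lit 0, nat_lit 2, nat_lit 1, nat_lit 3, nat_lit 2, nat_lit 0, nat_lit 1, nat_lit 2, nat_lit 0, nat_lit 2, nat_lit 1, nat_lit 0, nat_lit 2, nat_lit 3, nat_lit 1, nat_lit 2, nat_lit 0, nat_lit 3, nat_lit 0, nat_lit 3, nat_lit 1, nat_lit 0, nat_lit 1, nat_lit 2, nat_lit 1, nat_lit 3, nat_lit 0, nat_lit 3, nat_lit 1, nat_lit 3, nat_lit 1, nat_lit 3, nat_lit 2, nat_lit 0, nat_lit 1, nat_lit 3, nat_lit 0, nat_lit 1, nat_lit 3, nat_lit 1, nat_lit 3, nat_lit 0, nat_lit 3, nat_lit 0, nat_lit 2, nat_lit 1, nat_lit 0, nat_lit 2, nat_lit 3, nat_lit 2, nat_lit 1, nat_lit 2, nat_lit 1, nat_lit 3, nat_lit 2, nat_lit 3, nat_lit 0, nat_lit 2, nat_lit 3, nat_lit 0, nat_lit 1, nat_lit 0, nat_lit 3, nat_lit 0, nat_lit 2, nat_lit 0, nat_lit 3])) (TL.node (TL.leaf [nat_lit 2, nat_lit 0, nat_lit 1, nat_lit 2, nat_lit 0, nat_lit 2, nat_lit 1, nat_lit 0, nat_lit 2, nat_lit 0, nat_lit 1, nat_lit 2, nat_lit 3, nat_lit 0, nat_lit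 2, nat_lit 0, nat_lit 3, nat_lit 2, nat_lit 1, nat_lit 0, nat_lit 2, nat_lit 0, nat_lit 1, nat_lit 2, nat_lit 0, nat_lit 2, nat_lit 1, nat_lit 0, nat_lit 2, nat_lit 0, nat_lit 1, nat_lit 2, nat_lit 3, nat_lit 0, nat_lit 2, nat_lit 0, nat_lit 3, nat_lit 2, nat_lit 1, nat_lit 0, nat_lit 2, nat_lit 0, nat_lit 2, nat_lit 3, nat_lit 2, nat_lit 3, nat_lit 2, nat_lit 0, nat_lit 2, nat_lit 0, nat_lit 3, nat_lit 0, nat_lit 1, nat_lit 3, nat_lit 1, nat_lit 3, nat_lit 0, nat_lit 3, nat_lit 0, nat_lit 3, nat_lit 1, nat_lit 2, nat_lit 0, nat_lit 2, nat_lit 3, nat_lit 0, nat_lit 3, nat_lit 1, nat_lit 3, nat_lit 2, nat_lit 1, nat_lit 3, nat_lit 0]) (TL.leaf [nat_lit 2, nat_lit 0, nat_lit 1, nat_lit 2, nat_lit 0, nat_lit 2, nat_lit 1, nat_lit 0, nat_lit 2, nat_lit 0, nat_lit 1, nat_lit 2, nat_lit 3, nat_lit 0, nat_lit 2, nat_lit 0, nat_lit 3, nat_lit 2, nat_lit 1, nat_lit 0, nat_lit 2, nat_lit 0, nat_lit 1, nat_lit 2, nat_lit 0, nat_lit 2, nat_lit 1, nat_lit 0, nat_lit 2, nat_lit 3, nat_lit 0, nat_lit 3, nat_lit 1, nat_lit 3, nat_lit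 2, nat_lit 1, nat_lit 0, nat_lit 1, nat_lit 2, nat_lit 3, nat_lit 1, nat_lit 3, nat_lit 2, nat_lit 1, nat_lit 0, nat_lit 2, nat_lit 3, nat_lit 2, nat_lit 0, nat_lit 1, nat_lit 3, nat_lit 0, nat_lit 3, nat_lit 1, nat_lit 3, nat_lit 2, nat_lit 3, nat_lit 1, nat_lit 0, nat_lit 2, nat_lit 0, nat_lit 1, nat_lit 0, nat_lit 1, nat_lit 0, nat_lit 3, nat_lit 2, nat_lit 0, nat_lit 3, nat_lit 1, nat_lit 2, nat_lit 0, nat_lit 2, nat_lit 3, nat_lit 1, nat_lit 2, nat_lit 0, nat_lit 3, nat_lit 1])))))
noncomputable def W (i : ℕ) : List ℕ := TL.get W_t i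
def B : List ℕ := [nat_lit 0, nat_lit 1, nat_lit 2, nat_lit 3, nat_lit 5, nat_lit 4]
noncomputable def q (j : ℕ) : Cfsg.Spor.Co3 := ev Co3.al (W j)
noncomputable def Q (j : ℕ) : ℕ → ℕ := trF Co3.T (W j)
theorem md : Md Co3.pt 552 B q Q 23 := (Co3.md0).words' (by decide +kernel)
def I (i : ℕ) : ℕ := Nat.land (Nat.shiftRight (nat_lit 0x100411080010c441144611c00000000000000000000000000000000000000000000000000000000000000000000000000000000000000000000000000000000000000000000000000000000000000000000380e43a0ec3c0f43e0fc0000000000000000000000000000000000000000000000000000000000000000000000000000000000000000000000000000000000000000000000000000000000000003700000000000000000000000000000000000000000000000000000000000000000000000000000000000000000000000000000000000000000000000000000000000000000000000000000000000000360b400000000000000000000000000000000000000000000000000000000000000000000000000000000000000000000000000000000000000000000000000000000000000000000000000000000000350b0240000000000000000000000000000000000000000000000000000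00000000000000000000000000000000000000000000000000000000000000000000000000000000000000000000000000000340ac23070000000000000000000000000000000000000000000000000000000000000000000000000000000000000000000000000000000000000000000000000000000000000000000000000000000330a82206c150000000000000000000000000000000000000000000000000000000000000000000000000000000000000000000000000000000000000000000000000000000000000000000000000000320a4210681403c0000000000000000000000000000000000000000000000000000000000000000000000000000000000000000000000000000000000000000000000000000000000000000000000000310a020064130380a000000000000000000000000000000000000000000000000000000000000000000000000000000000000000000000000000000000000000000000000000000000000000000000003009c1f0601203409018000000000000000000000000000000000000000000000000000000000000000000000000000000000000000000000000000000000000000000000000000000000000000000002f0981e05c1103008014030000000000000000000000000000000000000000000000000000000000000000000000000000000000000000000000000000000000000000000000000000000000000000002e0941d0581002c0701002004000000000000000000000000000000000000000000000000000000000000000000000000000000000000000000000000000000000000000000000000000000000000000000000000000000000000000000)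 (Nat.mul (nat_lit 10) i)) (nat_lit 1023)
def Ru_t1 : TN := (TN.node (TN.node (TN.node (TN.node (TN.leaf (nat_lit 0)) (TN.leaf (nat_lit 0x3020c41461c8000000000309202))) (TN.leaf (nat_lit 0x108000000000108082))) (TN.node (TN.leaf (nat_lit 0x46000000000046082)) (TN.leaf (nat_lit 0xca0000000000ca082)))) (TN.node (TN.node (TN.leaf (nat_lit 0x84000000000084082)) (TN.leaf (nat_lit 0x109000000000109082))) (TN.node (TN.leaf (nat_lit 0x20c70000000000c70c2)) (TN.leaf (nat_lit 0xb0830000000002c80c2)))))
def Ru_t2 : TN := (TN.node (TN.node (TN.node (TN.node (TN.leaf (nat_lit 0x43000000000043082)) (TN.leaf (nat_lit 0xc0830000000003040c2))) (TN.leaf (nat_lit 0x1000000000208042))) (TN.node (TN.leaf (nat_lit 0x42146000000000146102)) (TN.leaf (nat_lit 0x10831461ca0000000001ca1c2)))) (TN.node (TN.node (TN.leaf (nat_lit 0x85000000000085082)) (TN.leaf (nat_lit 0x85209000000000209102))) (TN.node (TN.leaf (nat_lit 0x420000000001c7082)) (TN.leaf (nat_lit 0x2c10831c80000000002c4182)))))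
def Ru_t3 : TN := (TN.node Ru_t1 Ru_t2)
def Ru_t4 : TN := (TN.node (TN.node (TN.node (TN.node (TN.leaf (nat_lit 0x42000000000042082)) (TN.leaf (nat_lit 0x303146209000000000307182))) (TN.leaf (nat_lit 0x11880000000001880c2))) (TN.node (TN.leaf (nat_lit 0x10c60000000000c60c2)) (TN.leaf (nat_lit 0x4314a00000000014a102)))) (TN.node (TN.node (TN.leaf (nat_lit 0x1000000000104042)) (TN.leaf (nat_lit 0x31890000000001890c2))) (TN.node (TN.leaf (nat_lit 0x147000000000147082)) (TN.leaf (nat_lit 0xb0420c51c80000000002c61c2)))))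
def Ru_t5 : TN := (TN.node (TN.node (TN.node (TN.node (TN.leaf (nat_lit 0x10000000000c3042)) (TN.leaf (nat_lit 0x3010c4000000000302102))) (TN.leaf (nat_lit 0x10890000000000890c2))) (TN.node (TN.leaf (nat_lit 0x47000000000047082)) (TN.leaf (nat_lit 0x420c414624a00000000024a202)))) (TN.node (TN.node (TN.leaf (nat_lit 0x105000000000105082)) (TN.leaf (nat_lit 0x4a00000000004a082))) (TN.node (TN.leaf (nat_lit 0x88000000000088082)) (TN.leaf (nat_lit 0xb0420000000002c20c2)))))
def Ru_t6 : TN := (TN.node Ru_t4 Ru_t5)
def Ru_t7 : TN := (TN.node Ru_t3 Ru_t6)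
def Ru_t8 : TN := (TN.node (TN.node (TN.node (TN.node (TN.leaf (nat_lit 266242)) (TN.leaf (nat_lit 0xc04414724a0000000003081c2))) (TN.leaf (nat_lit 0x11480000000001480c2))) (TN.node (TN.leaf (nat_lit 0x86000000000086082)) (TN.leaf (nat_lit 0x10a00000000010a082)))) (TN.node (TN.node (TN.leaf (nat_lit 0xc40000000000c4082)) (TN.leaf (nat_lit 0x11490000000001490c2))) (TN.node (TN.leaf (nat_lit 0x11070000000001070c2)) (TN.leaf (nat_lit 0xb0441470000000002c7142)))))
def Ru_t9 : TN := (TN.node (TN.node (TN.node (TN.node (TN.leaf (nat_lit 0x83000000000083082)) (TN.leaf (nat_lit 0xc0420c51c90000000003031c2))) (TN.leaf (nat_lit 0x49000000000049082))) (TN.node (TN.leaf (nat_lit 0x186002)) (TN.leaf (nat_lit 0x20c414620a00000000020a1c2)))) (TN.node (TN.node (TN.leaf (nat_lit 0x10c50000000000c50c2)) (TN.leaf (nat_lit 0x21050000000002490c2))) (TN.node (TN.leaf (nat_lit 0x48000000000048082)) (TN.leaf (nat_lit 0x2c11480000000002c3102)))))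
def Ru_t10 : TN := (TN.node Ru_t8 Ru_t9)
def Ru_t11 : TN := (TN.node (TN.node (TN.node (TN.node (TN.leaf (nat_lit 532482)) (TN.leaf (nat_lit 0xc0440000000003050c2))) (TN.leaf (nat_lit 0x21c80000000001c80c2))) (TN.node (TN.leaf (nat_lit 0x106000000000106082)) (TN.leaf (nat_lit 0x4318a00000000018a102)))) (TN.node (TN.node (TN.leaf (nat_lit 0x45000000000045082)) (TN.leaf (nat_lit 0x1051c90000000001c9102))) (TN.node (TN.leaf (nat_lit 0x11870000000001870c2)) (TN.leaf (nat_lit 0xb0431060000000002c5142)))))
def Ru_t12 : TN := (TN.node (TN.node (TN.node (TN.node (TN.leaf (nat_lit 0x44000000000044082)) (TN.leaf (nat_lit 0x301000000000301082))) (TN.leaf (nat_lit 0x20c90000000000c90c2))) (TN.node (TN.leaf (nat_lit 0x87000000000087082)) (TN.leaf (nat_lit 0x10c400000000028a0c2)))) (TN.node (TN.node (TN.leaf (nat_lit 0x1000000000145042)) (TN.leaf (nat_lit 0x8a00000000008a082))) (TN.node (TN.leaf (nat_lit 0x20c80000000000c80c2)) (TN.leaf (nat_lit 0x2c10000000002c1082)))))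
def Ru_t13 : TN := (TN.node Ru_t11 Ru_t12)
def Ru_t14 : TN := (TN.node Ru_t10 Ru_t13)
def Ru_t : TN := (TN.node Ru_t7 Ru_t14)
noncomputable def Ru (i : ℕ) : ℕ := TN.get Ru_t i
def D_t1 : TN := (TN.node (TN.node (TN.node (TN.node (TN.leaf (nat_lit 0x100000000000000000000000000000001)) (TN.leaf (nat_lit 0x10000000000000000000000000000000000000000000000000000000000000000000000000000000000000000000000000000000000000000000000000000000000000000000000000000000000000000000000000000000000000000000000000000000000000000000000000000000000000000000000000000000000000001000000000000000000000000000000000000000000000000000000000000000000000000000000000000000000000000000000000000000000000000000000000000000100000000000000000000000000000000000000000000000000000000000000000000000100000001000000010000000100000021))) (TN.node (TN.leaf (nat_lit 0x1000000000000000000000000000000000000000000000000000000000000000000000000000000000000000000000001000000000000000100000000000000000000000100000011)) (TN.leaf (nat_lit 0x1000000010000000000000001000000010000000100000000000000000000000000000000000000000000000000000000000000000000000000000000000000000000000000000000000000000000000000000000000000000000000000000000000000000000000100000001000000000000000100000001000000010000000000000001000000010000000000000001000000000000000000000000000000010000000000000000000000010000000000000000000000000000000100000000000000000000000000000031))))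 (TN.node (TN.node (TN.leaf (nat_lit 0x100000000000000000000000000000000000000000000000000000000000000000000000000000000000000000000000000000000000000000000000000000000000000000000000000000000000000000000000000000000000000000000000000000000000000000000000000000000000000000000000000000000000000000000000000000000000000000000000000000009)) (TN.leaf (nat_lit 0x10000000100000000000000000000000000000000000000000000000000000000000000000000000000000000000000010000000100000000000000000000000000000000000000000000000000000000000000000000000000000001000000010000000000000000000000010000000100000000000000000000000100000000000000000000000000000000000000000000000100000029))) (TN.leaf (nat_lit 0x10000000100000000000000010000000000000000000000000000000000000000000000000000000000000000000000000000000000000000000000000000000000000000000000000000000000000000000000000000000000000000000000000000000000000000000000000000000000000000000000000000000000000000000000000000000100000000000000000000000000000000000000010000000100000019)))) (TN.node (TN.node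 (TN.node (TN.leaf (nat_lit 0x100000000000000000000000000000000000000000000000000000000000000000000000000000000000000000000000000000000000000000000000100000005)) (TN.leaf (nat_lit 0x10000000100000001000000000000000000000000000000000000000000000001000000000000000000000000000000000000000000000000000000000000000000000000000000000000000000000000000000000000000000000000000000000000000000000000000000000000000100000001000000010000000000000025))) (TN.node (TN.leaf (nat_lit 0x10000000000000000000000000000000000000000000000000000000000000015)) (TN.leaf (nat_lit 0x100000000000000000000000000000000000000000000000000000000000000000000000000000000000000000000000000000000000000000000000000000001000000000000000100000000000000010000000000000001000000010000000100000000000000000000000000000000000000000000000000000000000000010000000100000000000000000000000000000000000000000000000100000000000000000000000000000001000000010000000100000001000000000000000100000001000000010000000100000001000000000000000100000001000000000000000100000000000000010000000000000001000000010000000000000001000000010000000100000000000000000000000100000035))))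 (TN.node (TN.node (TN.leaf (nat_lit 0x1000000000000000000000000000000000000000000000000000000000000000000000000000000000000000000000000000000000000000000000000000000000000000000000000000000000000000000000000000000000000000000000000000000000000000000000000000000000000000000000000000000000000000000000000000000000000000000000000000000000000000000000000000000000000000000000000000000000000000000000000000000000000000000000000000000000000000000000000000000000000000000000000000000000000000100000000000000000000000000000000000000010000000000000000000000010000000000000000000000000000000000000000000000010000000d)) (TN.leaf (nat_lit 0x100000000000000000000000000000000000000000000000000000000000000000000000000000000000000000000000000000000000000000000000000000000000000000000000000000000000000000000000000000000000000000000000000000000000000000000000100000001000000000000000000000000000000010000000100000001000000010000000000000000000000000000000100000001000000010000000000000000000000000000000000000000000000000000000000000000000000000000000000000000000000010000000000000000000000000000000100000001000000010000000100000000000000000000002d)))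 (TN.leaf (nat_lit 0x100000000000000000000000000000000000000000000000000000000000000000000000000000000000000000000000000000000000000000000000000000000000000000000000000000000000000000000000000000000000000000000000000000000000000000000000000000000000000000000000000000000000000000000000000000000000000000000000000000000000000000000000000000000000000000000000100000000000000010000000100000000000000010000000100000000000000000000000000000000000000010000000100000000000000000000000100000000000000000000000000000000000000000000001d)))))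
def D_t2 : TN := (TN.node (TN.node (TN.node (TN.node (TN.leaf (nat_lit 0x10000000000000000000000000000000000000000000000000000000000000000000000000000000000000003)) (TN.leaf (nat_lit 0x10000000000000000000000000000000000000000000000000000000000000000000000000000000000000000000000000000000000000000000000000000000000000000000000000000000000000000000000000000000000000000000000000000000000000000000000010000000000000000000000000000000000000000000000000000000000000000000000000000000000000001000000010000000000000000000000000000000000000000000000000000000000000000000000000000000100000000000000000000000000000001000000000000000100000000000000000000000100000001000000010000000100000023))) (TN.node (TN.leaf (nat_lit 0x1000000000000000000000000000000000000000000000000000000000000000000000000000000000000000000000000000000000000000000000000000000000000000000000000000000000000000000000000000000000000000000000000000000000000000000000001000000000000000000000000000000000000000000000000000000000000000000000000000000000000000000000000000000000000000000000000000000000000000000000000000000000000000000000000000000000000000000000000000000000000000000000000000000000000000000000001000000010000000000000001000000000000000000000013))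 (TN.leaf (nat_lit 0x100000000000000010000000100000000000000000000000000000000000000000000000000000000000000000000000000000000000000000000000000000000000000000000000000000000000000000000000000000000000000000000000000000001000000000000000000000000000000000000000000000000000000000000000000000001000000010000000100000001000000010000000100000001000000000000000100000001000000010000000100000001000000010000000000000001000000010000000100000001000000010000000000000001000000010000000100000000000000000000000000000000000000000000000000000000000000000000000000000001000000000000000000000033)))) (TN.node (TN.node (TN.leaf (nat_lit 0x1000000010000000000000000000000000000000000000000000000000000000000000000000000000000000000000000000000000000000000000000000000000000000000000000000000000000000000000000000000000000000b)) (TN.leaf (nat_lit 0x1000000010000000000000000000000000000000000000000000000000000000000000000000000000000000000000000000000000000000000000000000000000000000000000000000000000000000000000000000000000000000000000000000000000000000000000000000000000000000100000000000000010000000000000000000000010000000000000001000000000000000000000000000000000000000000000000000000000000000000000001000000000000002b)))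 (TN.leaf (nat_lit 0x1000000000000000000000000000000000000000000000001000000000000000000000000000000000000000000000000000000000000001b)))) (TN.node (TN.node (TN.node (TN.leaf (nat_lit 0x10000000000000007)) (TN.leaf (nat_lit 0x1000000000000000000000000000000000000000000000000000000000000000000000000000000000000000000000000000000000000000000000000000000000000000000000000000000000000000000000000000000000000000000000000000000000000000000000000000000000000000000000001000000000000000000000000000000000000000000000000000000000000000000000000000000000000000000000000000000000000000000000001000000010000000000000000000000000000000000000000000000000000000000000001000000010000000100000000000000010000000000000000000000000000000100000027))) (TN.node (TN.leaf (nat_lit 0x10000000000000000000000010000000000000000000000010000000000000017)) (TN.leaf (nat_lit 0x100000000000000000000000000000000000000000000000000000000000000000000000000000000000000000000000000000000000000000000000000000001000000010000000000000001000000010000000000000001000000000000000000000000000000010000000100000001000000000000000100000001000000000000000000000000000000000000000100000001000000010000000100000001000000000000000000000001000000000000000000000000000000000000000000000001000000000000000100000001000000000000000000000001000000000000000100000001000000010000000000000000000000000000000000000000000000000000000000000000000000010000000000000037))))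 (TN.node (TN.node (TN.leaf (nat_lit 0x10000000100000000000000010000000100000000000000010000000100000000000000000000000f)) (TN.leaf (nat_lit 0x1000000010000000000000001000000000000000000000000000000000000000100000001000000010000000100000001000000010000000000000000000000000000000000000000000000000000000000000000000000000000000000000000000000000000000000000000000000000000000100000001000000010000000000000001000000000000000100000001000000010000000000000001000000010000000000000001000000010000000100000000000000000000000000000000000000000000002f))) (TN.leaf (nat_lit 0x100000000000000010000000000000000000000000000000000000000000000000000000000000000000000000000000000000000000000000000000000000000000000000000000000000000000000000000000000000000000000000000000000000000000000000000000000000000000000000000000000000000000000000000000000000001000000010000000000000001000000000000000000000000000000000000000100000000000000000000000000000000000000000000001f)))))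
def D_t3 : TN := (TN.node D_t1 D_t2)
def D_t4 : TN := (TN.node (TN.node (TN.node (TN.node (TN.leaf (nat_lit 0x100000000000000000000000000000000000000000000000000000002)) (TN.leaf (nat_lit 0x1000000000000000000000000000000000000000000000000000000000000000000000000000000000000000000000000000000000000000000000000000000000000000000000000000000010000000100000000000000010000000000000000000000000000000000000000000000000000000000000000000000010000000100000001000000000000000000000001000000010000000100000022))) (TN.node (TN.leaf (nat_lit 0x100000001000000000000000100000000000000000000000000000000000000000000000000000000000000000000000000000000000000000000000000000000000000000000000000000000000000000000000000000000000000000000000000000000000000000000000000000000000000000000000000000000000000000000000000000000000000000000000000000000000000000000000000000000000000000000000000000000000000000000000000000000000000000000000000000012)) (TN.leaf (nat_lit 0x10000000100000000000000000000000000000000000000000000000000000000000000000000000000000000000000000000000000000000000000000000000000000000000000000000000000000000000000000000000000000000000000000000000000000001000000010000000000000001000000010000000000000001000000000000000000000001000000000000000100000000000000000000000000000000000000010000000100000000000000000000000000000000000000000000000000000001000000010000000000000000000000010000000100000000000000010000000100000001000000000000000000000000000000010000000100000001000000000000000000000000000000010000000000000032))))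 (TN.node (TN.node (TN.leaf (nat_lit 0x10000000000000000000000000000000000000000000000000000000000000000000000000000000000000000000000000000000000000000000000000000000000000000000000000000000000000000000000000000000a)) (TN.leaf (nat_lit 0x10000000000000000000000000000000000000000000000010000000000000000000000000000000000000000000000000000000000000000000000000000000000000001000000000000000000000001000000000000000000000000000000010000000100000001000000000000000000000000000000000000000000000000000000000000000000000001000000000000002a))) (TN.leaf (nat_lit 0x100000000000000000000000000000000000000000000000000000000000000000000000000000000000000000000000000000000000000000000000000000000000000000000000000000000000000000000000000000000000000000000000000000000000000000000000100000000000000000000000100000000000000000000000000000001000000000000000000000000000000000000000000000000000000000000000000000000000000000000000000000000000000000000000100000000000000000000000000000000000000000000000000000000000000000000000100000000000000000000000000000000000000000000001a))))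 (TN.node (TN.node (TN.node (TN.leaf (nat_lit 0x10000000100000006)) (TN.leaf (nat_lit 0x10000000000000000000000000000000000000000000000000000000000000000000000000000000000000000000000000000000000000000000000000000000000000000000000000000000000000000000000000000000000000000000000000000000000000000000000000000000000000000000000000000000100000000000000000000000100000000000000000000000000000000000000000000000000000000000000000000000000000000000000000000000100000000000000000000000100000000000000000000000000000000000000000000000000000000000000010000000100000000000000000000000000000001000000010000000100000000000000000000000000000000000000000000000100000026))) (TN.node (TN.leaf (nat_lit 0x100000000000000000000000000000000000000010000000100000000000000000000000000000000000000000000000000000000000000000000000000000000000000000000000000000000000000000000000100000016)) (TN.leaf (nat_lit 0x100000000000000000000000100000000000000000000000000000000000000000000000000000000000000000000000000000000000000000000000000000000000000010000000100000001000000010000000100000001000000010000000000000000000000000000000100000001000000010000000000000001000000010000000100000000000000010000000000000001000000010000000000000000000000010000000000000000000000000000000100000001000000000000000000000001000000000000000000000001000000000000000000000000000000010000000100000001000000000000000000000000000000010000000000000001000000010000000000000000000000000000000000000036))))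 (TN.node (TN.node (TN.leaf (nat_lit 0x100000001000000000000000000000000000000000000000000000000000000000000000000000000000000000000000e)) (TN.leaf (nat_lit 0x10000000000000001000000010000000000000001000000000000000100000000000000010000000100000001000000000000000000000000000000000000000100000001000000010000000000000001000000000000000000000000000000000000000100000001000000000000000000000001000000010000000100000000000000010000002e))) (TN.leaf (nat_lit 0x1000000000000000000000000000000000000000000000000000000000000000000000000000000000000000000000000000000000000000000000000000000000000000000000000000000000000000000000000000000000000000000000000000000010000000000000000000000000000000100000000000000010000000000000001000000000000000100000001000000000000001e)))))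
def D_t5 : TN := (TN.node (TN.node (TN.node (TN.node (TN.leaf (nat_lit 0x10000000000000000000000000000000000000000000000000000000000000000000000000000000000000000000000000000000000000000000000000000000000000000000000000000000000000000000000000000000000000000000000000000000000000000000000000000000000000004)) (TN.leaf (nat_lit 0x100000000000000000000000100000000000000000000000000000000000000010000000000000000000000010000000000000000000000010000000000000000000000000000000000000000000000000000000100000000000000000000000100000000000000010000000000000000000000010000000000000001000000000000000000000000000000000000000100000000000000000000000000000024))) (TN.node (TN.leaf (nat_lit 0x10000000000000000000000000000000000000000000000000000000000000000000000000000000000000000000000000000000000000000000000000000000000000000000000000000000000000000000000000000000000000000000000000000000000000000000000000000000000000000000000000000000000000000000000000000000000000000000000000000000000000000000000000000000000000000000000000000000000000000000000000000000000000000000000000000000000000000000000000000000000000000000000000000000000000000000000000000000000000000000000000000000100000000000000000000000000000001000000010000000000000001000000000000000000000014))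 (TN.leaf (nat_lit 0x10000000000000000000000000000000000000000000000000000000000000000000000000000000000000000000000000000000000000000000000000000000100000001000000000000000100000000000000010000000100000000000000000000000100000001000000000000000100000000000000010000000000000001000000000000000100000001000000000000000000000000000000000000000000000000000000000000000100000001000000010000000000000000000000000000000000000001000000010000000100000001000000010000000000000001000000010000000000000001000000000000000100000001000000000000000000000000000000000000000100000001000000000000000100000034)))) (TN.node (TN.node (TN.leaf (nat_lit 0x1000000010000000000000000000000000000000000000000000000000000000000000000000000000000000000000000000000000000000100000001000000010000000c)) (TN.leaf (nat_lit 0x100000000000000000000000000000000000000000000000000000000000000000000000000000000000000000000000000000000000000000000000000000000000000000000000000000000000000000000000000000000000000000000000000000000000000000000000000000000000000010000000000000000000000010000000100000000000000000000000000000000000000000000000100000000000000000000000000000000000000000000000000000000000000000000000000000000000000010000000100000000000000000000000000000000000000000000000000000000000000000000000100000001000000010000002c)))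 (TN.leaf (nat_lit 0x10000000000000000000000000000000000000000000000000000000000000000000000000000000000000000000000000000000000000000000000000000000000000000000000000000000000000000000000000000000000000000000000000000000000000000000000000000000000000000000000000000000000000000000000010000000000000001000000000000000000000000000000000000000100000000000000000000000000000000000000000000001c)))) (TN.node (TN.node (TN.node (TN.leaf (nat_lit 0x100000000000000000000000000000000000000000000000000000000000000000000000000000000000000000000000000000000000000000000000000000000000000000000000000000000000000000000000000000000000000000000000000000000000000000000000000000000000000000000000000000000000000000000000000000000000000000000000000000000000000000000000000000000000000000000000000000000000000000000000000000008)) (TN.leaf (nat_lit 0x10000000000000000000000010000000000000000000000000000000000000001000000010000000000000001000000000000000000000000000000000000000000000000000000000000000000000000000000000000000000000000000000000000000000000001000000000000000000000001000000010000000000000000000000000000000000000000000000000000000000000001000000010000000000000028)))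 (TN.leaf (nat_lit 0x1000000000000000000000000000000000000000100000000000000000000000000000018))) (TN.node (TN.node (TN.leaf (nat_lit 0x1000000000000000000000000000000000000000000000000000000000000000000000000000000000000000000000000000000000000000000000000000000000000000000000000000000000000000000000000000000000000000000000000000000000000000100000001000000000000000000000010)) (TN.leaf (nat_lit 0x10000000000000000000000000000000000000000000000000000000000000000000000000000000000000000000000000000000000000000000000000000000000000000000000000000000000000000000000000000000000000000000000000000000000000001000000000000000100000000000000010000000000000001000000010000000100000000000000000000000000000000000000000000000000000000000000000000000100000000000000000000000100000001000000000000000000000000000000000000000000000000000000000000000000000000000000010000000100000000000000000000000100000000000000010000000100000000000000010000000100000001000000000000000100000030))) (TN.leaf (nat_lit 0x1000000000000000100000000000000000000000000000000000000000000000000000000000000000000000000000000000000000000000000000000000000000000000000000000000000000000000000000000000000000000000000000000000000000000000000000000000000000000000100000001000000000000000100000000000000000000000000000000000000000000000000000000000000000000000000000001000000000000000000000000000000000000000000000020)))))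
def D_t6 : TN := (TN.node D_t4 D_t5)
def D_t : TN := (TN.node D_t3 D_t6)
noncomputable def D (i : ℕ) : ℕ := TN.get D_t i
def La_t1 : TN := (TN.node (TN.node (TN.node (TN.node (TN.leaf (nat_lit 0x1010000000000)) (TN.leaf (nat_lit 0x10000000000000000))) (TN.leaf (nat_lit 65536))) (TN.node (TN.leaf (nat_lit 1)) (TN.leaf (nat_lit 0x1000000000000000000)))) (TN.node (TN.node (TN.node (TN.leaf (nat_lit 0x1000000000000)) (TN.leaf (nat_lit 0x100000000000000))) (TN.leaf (nat_lit 0x1010100000000))) (TN.node (TN.leaf (nat_lit 256)) (TN.leaf (nat_lit 0x1000000)))))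
def La_t2 : TN := (TN.node (TN.node (TN.node (TN.node (TN.leaf (nat_lit 0)) (TN.leaf (nat_lit 0))) (TN.leaf (nat_lit 0))) (TN.node (TN.leaf (nat_lit 0)) (TN.leaf (nat_lit 0)))) (TN.node (TN.node (TN.node (TN.leaf (nat_lit 0)) (TN.leaf (nat_lit 0))) (TN.leaf (nat_lit 0))) (TN.node (TN.leaf (nat_lit 0)) (TN.leaf (nat_lit 0)))))
def La_t3 : TN := (TN.node La_t1 La_t2)
def La_t4 : TN := (TN.node (TN.node (TN.node (TN.node (TN.leaf (nat_lit 0)) (TN.leaf (nat_lit 0x10000010000000100000001010101010000010000010001010000010001000001000001010001010001000000000100))) (TN.leaf (nat_lit 0))) (TN.node (TN.leaf (nat_lit 0)) (TN.leaf (nat_lit 0)))) (TN.node (TN.node (TN.node (TN.leaf (nat_lit 0)) (TN.leaf (nat_lit 0x100000100010101000000010100000001000001000000010100010001000100000001010101000000010100010001010100000100))) (TN.leaf (nat_lit 0))) (TN.node (TN.leaf (nat_lit 0)) (TN.leaf (nat_lit 0)))))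
def La_t5 : TN := (TN.node (TN.node (TN.node (TN.node (TN.leaf (nat_lit 0)) (TN.leaf (nat_lit 0))) (TN.leaf (nat_lit 0))) (TN.node (TN.leaf (nat_lit 0)) (TN.leaf (nat_lit 0)))) (TN.node (TN.node (TN.node (TN.leaf (nat_lit 0)) (TN.leaf (nat_lit 0))) (TN.leaf (nat_lit 0))) (TN.node (TN.leaf (nat_lit 0)) (TN.leaf (nat_lit 0)))))
def La_t6 : TN := (TN.node La_t4 La_t5)
def La_t7 : TN := (TN.node La_t3 La_t6)
def La_t8 : TN := (TN.node (TN.node (TN.node (TN.node (TN.leaf (nat_lit 0)) (TN.leaf (nat_lit 0x101000100010000000101000000000100000101000001000101000101010000010001000000010101))) (TN.leaf (nat_lit 0x101010100000000000001010001000001010000000100))) (TN.node (TN.leaf (nat_lit 0)) (TN.leaf (nat_lit 0x1000000010000000101000001000101010101010001000101000100010001010100000000010100)))) (TN.node (TN.node (TN.node (TN.leaf (nat_lit 0)) (TN.leaf (nat_lit 0x100000001000000010000000001000100000100010101000100010101010000000001010000010100010001000100))) (TN.leaf (nat_lit 0))) (TN.node (TN.leaf (nat_lit 0)) (TN.leaf (nat_lit 0x100000000000101000000000001000000000001010001000100)))))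
def La_t9 : TN := (TN.node (TN.node (TN.node (TN.node (TN.leaf (nat_lit 0)) (TN.leaf (nat_lit 0))) (TN.leaf (nat_lit 0))) (TN.node (TN.leaf (nat_lit 0)) (TN.leaf (nat_lit 0)))) (TN.node (TN.node (TN.node (TN.leaf (nat_lit 0)) (TN.leaf (nat_lit 0))) (TN.leaf (nat_lit 0))) (TN.node (TN.leaf (nat_lit 0)) (TN.leaf (nat_lit 0)))))
def La_t10 : TN := (TN.node La_t8 La_t9)
def La_t11 : TN := (TN.node (TN.node (TN.node (TN.node (TN.leaf (nat_lit 0)) (TN.leaf (nat_lit 0))) (TN.leaf (nat_lit 0))) (TN.node (TN.leaf (nat_lit 0)) (TN.leaf (nat_lit 0)))) (TN.node (TN.node (TN.node (TN.leaf (nat_lit 0)) (TN.leaf (nat_lit 0))) (TN.leaf (nat_lit 0))) (TN.node (TN.leaf (nat_lit 0)) (TN.leaf (nat_lit 0)))))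
def La_t12 : TN := (TN.node (TN.node (TN.node (TN.node (TN.leaf (nat_lit 0)) (TN.leaf (nat_lit 0))) (TN.leaf (nat_lit 0))) (TN.node (TN.leaf (nat_lit 0)) (TN.leaf (nat_lit 0)))) (TN.node (TN.node (TN.node (TN.leaf (nat_lit 0)) (TN.leaf (nat_lit 0))) (TN.leaf (nat_lit 0))) (TN.node (TN.leaf (nat_lit 0)) (TN.leaf (nat_lit 0)))))
def La_t13 : TN := (TN.node La_t11 La_t12)
def La_t14 : TN := (TN.node La_t10 La_t13)
def La_t15 : TN := (TN.node La_t7 La_t14)
def La_t16 : TN := (TN.node (TN.node (TN.node (TN.node (TN.leaf (nat_lit 0)) (TN.leaf (nat_lit 0x1000101000001010000000000000000000100000000010000000101010000000101))) (TN.leaf (nat_lit 0x1000000000000000000000000000000000000000100000000010000))) (TN.node (TN.leaf (nat_lit 0)) (TN.leaf (nat_lit 0x10100000101010000000101010000000000010100000000000101000101010001000001000101010001)))) (TN.node (TN.node (TN.node (TN.leaf (nat_lit 0)) (TN.leaf (nat_lit 0x1000001010000000000010000000000000000000000000000000000000000))) (TN.leaf (nat_lit 0x100000000000000000001010000000001)))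 (TN.node (TN.leaf (nat_lit 0x10000000000000000000000000000000000000000000001)) (TN.leaf (nat_lit 0x10000000000000000000000000001000000000001000000000000000100000001010101000100010000)))))
def La_t17 : TN := (TN.node (TN.node (TN.node (TN.node (TN.leaf (nat_lit 0)) (TN.leaf (nat_lit 0))) (TN.leaf (nat_lit 0))) (TN.node (TN.leaf (nat_lit 0)) (TN.leaf (nat_lit 0)))) (TN.node (TN.node (TN.node (TN.leaf (nat_lit 0)) (TN.leaf (nat_lit 0))) (TN.leaf (nat_lit 0))) (TN.node (TN.leaf (nat_lit 0)) (TN.leaf (nat_lit 0)))))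
def La_t18 : TN := (TN.node La_t16 La_t17)
def La_t19 : TN := (TN.node (TN.node (TN.node (TN.node (TN.leaf (nat_lit 0)) (TN.leaf (nat_lit 0))) (TN.leaf (nat_lit 0))) (TN.node (TN.leaf (nat_lit 0)) (TN.leaf (nat_lit 0)))) (TN.node (TN.node (TN.node (TN.leaf (nat_lit 0)) (TN.leaf (nat_lit 0))) (TN.leaf (nat_lit 0))) (TN.node (TN.leaf (nat_lit 0)) (TN.leaf (nat_lit 0)))))
def La_t20 : TN := (TN.node (TN.node (TN.node (TN.node (TN.leaf (nat_lit 0)) (TN.leaf (nat_lit 0))) (TN.leaf (nat_lit 0))) (TN.node (TN.leaf (nat_lit 0)) (TN.leaf (nat_lit 0)))) (TN.node (TN.node (TN.node (TN.leaf (nat_lit 0)) (TN.leaf (nat_lit 0))) (TN.leaf (nat_lit 0))) (TN.node (TN.leaf (nat_lit 0)) (TN.leaf (nat_lit 0)))))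
def La_t21 : TN := (TN.node La_t19 La_t20)
def La_t22 : TN := (TN.node La_t18 La_t21)
def La_t23 : TN := (TN.node (TN.node (TN.node (TN.node (TN.leaf (nat_lit 0)) (TN.leaf (nat_lit 0))) (TN.leaf (nat_lit 0))) (TN.node (TN.leaf (nat_lit 0)) (TN.leaf (nat_lit 0x10000010000000000000100010000000001000000000000000001000000010100010001010100000101010000)))) (TN.node (TN.node (TN.node (TN.leaf (nat_lit 0)) (TN.leaf (nat_lit 0))) (TN.leaf (nat_lit 0))) (TN.node (TN.leaf (nat_lit 0)) (TN.leaf (nat_lit 0x10100000101010100010101010000000000000101000000000100000101000101000000000101010101)))))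
def La_t24 : TN := (TN.node (TN.node (TN.node (TN.node (TN.leaf (nat_lit 0)) (TN.leaf (nat_lit 0))) (TN.leaf (nat_lit 0))) (TN.node (TN.leaf (nat_lit 0)) (TN.leaf (nat_lit 0)))) (TN.node (TN.node (TN.node (TN.leaf (nat_lit 0)) (TN.leaf (nat_lit 0))) (TN.leaf (nat_lit 0))) (TN.node (TN.leaf (nat_lit 0)) (TN.leaf (nat_lit 0)))))
def La_t25 : TN := (TN.node La_t23 La_t24)
def La_t26 : TN := (TN.node (TN.node (TN.node (TN.node (TN.leaf (nat_lit 0)) (TN.leaf (nat_lit 0))) (TN.leaf (nat_lit 0))) (TN.node (TN.leaf (nat_lit 0)) (TN.leaf (nat_lit 0)))) (TN.node (TN.node (TN.node (TN.leaf (nat_lit 0)) (TN.leaf (nat_lit 0))) (TN.leaf (nat_lit 0))) (TN.node (TN.leaf (nat_lit 0)) (TN.leaf (nat_lit 0)))))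
def La_t27 : TN := (TN.node (TN.node (TN.node (TN.node (TN.leaf (nat_lit 0)) (TN.leaf (nat_lit 0))) (TN.leaf (nat_lit 0))) (TN.node (TN.leaf (nat_lit 0)) (TN.leaf (nat_lit 0)))) (TN.node (TN.node (TN.node (TN.leaf (nat_lit 0)) (TN.leaf (nat_lit 0))) (TN.leaf (nat_lit 0))) (TN.node (TN.leaf (nat_lit 0)) (TN.leaf (nat_lit 0)))))
def La_t28 : TN := (TN.node La_t26 La_t27)
def La_t29 : TN := (TN.node La_t25 La_t28)
def La_t30 : TN := (TN.node La_t22 La_t29)
def La_t31 : TN := (TN.node La_t15 La_t30)
def La_t32 : TN := (TN.node (TN.node (TN.node (TN.node (TN.leaf (nat_lit 0)) (TN.leaf (nat_lit 0x10001000000010101010000000000000000010001000101000000010101))) (TN.leaf (nat_lit 0x100000000000000000000010000))) (TN.node (TN.leaf (nat_lit 0x100010000000000000000000000000001000000000000)) (TN.leaf (nat_lit 0x101000000000000000000)))) (TN.node (TN.node (TN.node (TN.leaf (nat_lit 0x1000000000000000000010001000001000000000000)) (TN.leaf (nat_lit 0x1000000000000000000000000000001000000000000000000000100000000000000000001000100000001)))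 (TN.leaf (nat_lit 0x1000000000000000000000001000000000100000000))) (TN.node (TN.leaf (nat_lit 0x10000000000000000000000000000000000000000)) (TN.leaf (nat_lit 0x1000000000001000000010001000001000000000001)))))
def La_t33 : TN := (TN.node (TN.node (TN.node (TN.node (TN.leaf (nat_lit 0)) (TN.leaf (nat_lit 0))) (TN.leaf (nat_lit 0))) (TN.node (TN.leaf (nat_lit 0)) (TN.leaf (nat_lit 0)))) (TN.node (TN.node (TN.node (TN.leaf (nat_lit 0)) (TN.leaf (nat_lit 0))) (TN.leaf (nat_lit 0))) (TN.node (TN.leaf (nat_lit 0)) (TN.leaf (nat_lit 0)))))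
def La_t34 : TN := (TN.node La_t32 La_t33)
def La_t35 : TN := (TN.node (TN.node (TN.node (TN.node (TN.leaf (nat_lit 0)) (TN.leaf (nat_lit 0))) (TN.leaf (nat_lit 0))) (TN.node (TN.leaf (nat_lit 0)) (TN.leaf (nat_lit 0)))) (TN.node (TN.node (TN.node (TN.leaf (nat_lit 0)) (TN.leaf (nat_lit 0x101000100000000000101000101000000010000000000000100000101010001000001010000010000010000000000000101010001))) (TN.leaf (nat_lit 0))) (TN.node (TN.leaf (nat_lit 0)) (TN.leaf (nat_lit 0)))))
def La_t36 : TN := (TN.node (TN.node (TN.node (TN.node (TN.leaf (nat_lit 0)) (TN.leaf (nat_lit 0))) (TN.leaf (nat_lit 0))) (TN.node (TN.leaf (nat_lit 0)) (TN.leaf (nat_lit 0)))) (TN.node (TN.node (TN.node (TN.leaf (nat_lit 0)) (TN.leaf (nat_lit 0))) (TN.leaf (nat_lit 0))) (TN.node (TN.leaf (nat_lit 0)) (TN.leaf (nat_lit 0)))))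
def La_t37 : TN := (TN.node La_t35 La_t36)
def La_t38 : TN := (TN.node La_t34 La_t37)
def La_t39 : TN := (TN.node (TN.node (TN.node (TN.node (TN.leaf (nat_lit 0)) (TN.leaf (nat_lit 0))) (TN.leaf (nat_lit 0))) (TN.node (TN.leaf (nat_lit 0)) (TN.leaf (nat_lit 0x1000100000001010100000000000000000000000001000000010000000000010001000100010000010101010100)))) (TN.node (TN.node (TN.node (TN.leaf (nat_lit 0)) (TN.leaf (nat_lit 0x1000100000000010001000101000001000000000001000100010001000101010100000000010001010100010001010100))) (TN.leaf (nat_lit 0x10000000000000101000101010100010001000001000100010000000001000100000101000001))) (TN.node (TN.leaf (nat_lit 0)) (TN.leaf (nat_lit 0x100000100010101010000000101010000000100000000000101000000000100010001010000000100000000)))))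
def La_t40 : TN := (TN.node (TN.node (TN.node (TN.node (TN.leaf (nat_lit 0)) (TN.leaf (nat_lit 0))) (TN.leaf (nat_lit 0))) (TN.node (TN.leaf (nat_lit 0)) (TN.leaf (nat_lit 0)))) (TN.node (TN.node (TN.node (TN.leaf (nat_lit 0)) (TN.leaf (nat_lit 0))) (TN.leaf (nat_lit 0))) (TN.node (TN.leaf (nat_lit 0)) (TN.leaf (nat_lit 0)))))
def La_t41 : TN := (TN.node La_t39 La_t40)
def La_t42 : TN := (TN.node (TN.node (TN.node (TN.node (TN.leaf (nat_lit 0)) (TN.leaf (nat_lit 0))) (TN.leaf (nat_lit 0))) (TN.node (TN.leaf (nat_lit 0)) (TN.leaf (nat_lit 0)))) (TN.node (TN.node (TN.node (TN.leaf (nat_lit 0)) (TN.leaf (nat_lit 0))) (TN.leaf (nat_lit 0))) (TN.node (TN.leaf (nat_lit 0)) (TN.leaf (nat_lit 0)))))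
def La_t43 : TN := (TN.node (TN.node (TN.node (TN.node (TN.leaf (nat_lit 0)) (TN.leaf (nat_lit 0))) (TN.leaf (nat_lit 0))) (TN.node (TN.leaf (nat_lit 0)) (TN.leaf (nat_lit 0)))) (TN.node (TN.node (TN.node (TN.leaf (nat_lit 0)) (TN.leaf (nat_lit 0))) (TN.leaf (nat_lit 0))) (TN.node (TN.leaf (nat_lit 0)) (TN.leaf (nat_lit 0)))))
def La_t44 : TN := (TN.node La_t42 La_t43)
def La_t45 : TN := (TN.node La_t41 La_t44)
def La_t46 : TN := (TN.node La_t38 La_t45)
def La_t47 : TN := (TN.node (TN.node (TN.node (TN.node (TN.leaf (nat_lit 0)) (TN.leaf (nat_lit 0x101000100010000000101010001000101010000010001000101000101000001010100010000000100))) (TN.leaf (nat_lit 0x10000000000010000000000000000000000000000000000000000))) (TN.node (TN.leaf (nat_lit 0)) (TN.leaf (nat_lit 0x101000000010000000101010000010101010100000101000101010101000000000000000000010101)))) (TN.node (TN.node (TN.node (TN.leaf (nat_lit 0)) (TN.leaf (nat_lit 0x1000001010000000000010000010000000000000000000100000000000000))) (TN.leaf (nat_lit 0x101000001010000000000010000000100000000000000000100000100000001)))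 (TN.node (TN.leaf (nat_lit 0x10001000000000000010000010001000001000000000100)) (TN.leaf (nat_lit 0x100000100010000000101010001000000010101000000000100000001010000010101000001000001)))))
def La_t48 : TN := (TN.node (TN.node (TN.node (TN.node (TN.leaf (nat_lit 0)) (TN.leaf (nat_lit 0))) (TN.leaf (nat_lit 0))) (TN.node (TN.leaf (nat_lit 0)) (TN.leaf (nat_lit 0)))) (TN.node (TN.node (TN.node (TN.leaf (nat_lit 0)) (TN.leaf (nat_lit 0))) (TN.leaf (nat_lit 0))) (TN.node (TN.leaf (nat_lit 0)) (TN.leaf (nat_lit 0)))))
def La_t49 : TN := (TN.node La_t47 La_t48)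
def La_t50 : TN := (TN.node (TN.node (TN.node (TN.node (TN.leaf (nat_lit 0)) (TN.leaf (nat_lit 0))) (TN.leaf (nat_lit 0))) (TN.node (TN.leaf (nat_lit 0)) (TN.leaf (nat_lit 0)))) (TN.node (TN.node (TN.node (TN.leaf (nat_lit 0)) (TN.leaf (nat_lit 0))) (TN.leaf (nat_lit 0))) (TN.node (TN.leaf (nat_lit 0)) (TN.leaf (nat_lit 0)))))
def La_t51 : TN := (TN.node (TN.node (TN.node (TN.node (TN.leaf (nat_lit 0)) (TN.leaf (nat_lit 0))) (TN.leaf (nat_lit 0))) (TN.node (TN.leaf (nat_lit 0)) (TN.leaf (nat_lit 0)))) (TN.node (TN.node (TN.node (TN.leaf (nat_lit 0)) (TN.leaf (nat_lit 0))) (TN.leaf (nat_lit 0))) (TN.node (TN.leaf (nat_lit 0)) (TN.leaf (nat_lit 0)))))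
def La_t52 : TN := (TN.node La_t50 La_t51)
def La_t53 : TN := (TN.node La_t49 La_t52)
def La_t54 : TN := (TN.node (TN.node (TN.node (TN.node (TN.leaf (nat_lit 0)) (TN.leaf (nat_lit 0))) (TN.leaf (nat_lit 0))) (TN.node (TN.leaf (nat_lit 0)) (TN.leaf (nat_lit 0)))) (TN.node (TN.node (TN.node (TN.leaf (nat_lit 0)) (TN.leaf (nat_lit 0x1000100000001000100000101000100010101000000000101000001000001000001010000010001010001000000000101000000000101))) (TN.leaf (nat_lit 0))) (TN.node (TN.leaf (nat_lit 0)) (TN.leaf (nat_lit 0x10000000000000000000000000100010000010100000100000001010000000000010101000000)))))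
def La_t55 : TN := (TN.node (TN.node (TN.node (TN.node (TN.leaf (nat_lit 0)) (TN.leaf (nat_lit 0))) (TN.leaf (nat_lit 0))) (TN.node (TN.leaf (nat_lit 0)) (TN.leaf (nat_lit 0)))) (TN.node (TN.node (TN.node (TN.leaf (nat_lit 0)) (TN.leaf (nat_lit 0))) (TN.leaf (nat_lit 0))) (TN.node (TN.leaf (nat_lit 0)) (TN.leaf (nat_lit 0)))))
def La_t56 : TN := (TN.node La_t54 La_t55)
def La_t57 : TN := (TN.node (TN.node (TN.node (TN.node (TN.leaf (nat_lit 0)) (TN.leaf (nat_lit 0))) (TN.leaf (nat_lit 0))) (TN.node (TN.leaf (nat_lit 0)) (TN.leaf (nat_lit 0)))) (TN.node (TN.node (TN.node (TN.leaf (nat_lit 0)) (TN.leaf (nat_lit 0))) (TN.leaf (nat_lit 0))) (TN.node (TN.leaf (nat_lit 0)) (TN.leaf (nat_lit 0)))))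
def La_t58 : TN := (TN.node (TN.node (TN.node (TN.node (TN.leaf (nat_lit 0)) (TN.leaf (nat_lit 0))) (TN.leaf (nat_lit 0))) (TN.node (TN.leaf (nat_lit 0)) (TN.leaf (nat_lit 0)))) (TN.node (TN.node (TN.node (TN.leaf (nat_lit 0)) (TN.leaf (nat_lit 0))) (TN.leaf (nat_lit 0))) (TN.node (TN.leaf (nat_lit 0)) (TN.leaf (nat_lit 0)))))
def La_t59 : TN := (TN.node La_t57 La_t58)
def La_t60 : TN := (TN.node La_t56 La_t59)
def La_t61 : TN := (TN.node La_t53 La_t60)
def La_t62 : TN := (TN.node La_t46 La_t61)
def La_t : TN := (TN.node La_t31 La_t62)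
noncomputable def La (i : ℕ) : ℕ := TN.get La_t i
def Le_t : TN := (TN.leaf (nat_lit 0))
noncomputable def Le (i : ℕ) : ℕ := TN.get Le_t i
def C_t1 : TN := (TN.node (TN.node (TN.node (TN.node (TN.leaf (nat_lit 0)) (TN.leaf (nat_lit 0))) (TN.node (TN.leaf (nat_lit 0)) (TN.leaf (nat_lit 0)))) (TN.node (TN.node (TN.leaf (nat_lit 0)) (TN.leaf (nat_lit 0))) (TN.node (TN.leaf (nat_lit 0)) (TN.leaf (nat_lit 0))))) (TN.node (TN.node (TN.node (TN.leaf (nat_lit 0x10000000100000000000000000000000000000000000000000000000000000000000000000000000000000000000000000000000000000000000000000000000000000000000000000000000000000000000000000000000000000000000000010000000000000000000000000000000000000000000000000000000000000000000000000000000000000000000000000000000000000001000000000000000000000000000000000000000000000000)) (TN.leaf (nat_lit 0))) (TN.node (TN.leaf (nat_lit 0)) (TN.leaf (nat_lit 0)))) (TN.node (TN.node (TN.leaf (nat_lit 0)) (TN.leaf (nat_lit 0))) (TN.node (TN.leaf (nat_lit 0)) (TN.leaf (nat_lit 0))))))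
def C_t2 : TN := (TN.node (TN.node (TN.node (TN.node (TN.leaf (nat_lit 0x10000000000000000000000000000000000000000000000000000000000000000000000000000000000000000000000000000000000000001000000000000000000000000000000000000000000000000)) (TN.leaf (nat_lit 0))) (TN.node (TN.leaf (nat_lit 0)) (TN.leaf (nat_lit 0)))) (TN.node (TN.node (TN.leaf (nat_lit 0)) (TN.leaf (nat_lit 0))) (TN.node (TN.leaf (nat_lit 0)) (TN.leaf (nat_lit 0))))) (TN.node (TN.node (TN.node (TN.leaf (nat_lit 0x100000000000000000000000000000000000000000000000000000000000000010000000000000001000000000000000000000000000000000000000000000000000000000000000000000000000000000000000000000000000000000000000000000000000000000000000000000000000000000000000000000000000000000000000000000000000000000000000000000000000000000000000000000000000000000000000000000000000000000000000000000001000000000000000000000000000000000000000000000000)) (TN.leaf (nat_lit 0))) (TN.node (TN.leaf (nat_lit 0)) (TN.leaf (nat_lit 0)))) (TN.node (TN.node (TN.leaf (nat_lit 0)) (TN.leaf (nat_lit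 0))) (TN.node (TN.leaf (nat_lit 0)) (TN.leaf (nat_lit 0))))))
def C_t3 : TN := (TN.node C_t1 C_t2)
def C_t4 : TN := (TN.node (TN.node (TN.node (TN.node (TN.leaf (nat_lit 0x1000000000000000000000000000000000000000000000000)) (TN.leaf (nat_lit 0))) (TN.node (TN.leaf (nat_lit 0)) (TN.leaf (nat_lit 0)))) (TN.node (TN.node (TN.leaf (nat_lit 0)) (TN.leaf (nat_lit 0))) (TN.node (TN.leaf (nat_lit 0)) (TN.leaf (nat_lit 0))))) (TN.node (TN.node (TN.node (TN.leaf (nat_lit 0x10000000000000000000000000000000000000000000000000000000000000000000000000000000000000000000000000000000000000000000000000000000000000000000000000000000000000000000000000000000000000000000000010000000000000000000000000000000000000000000000000000000000000000000000000000000000000000000000000000000000000001000000000000000000000000000000000000000000000000)) (TN.leaf (nat_lit 0))) (TN.node (TN.leaf (nat_lit 0)) (TN.leaf (nat_lit 0)))) (TN.node (TN.node (TN.leaf (nat_lit 0)) (TN.leaf (nat_lit 0))) (TN.node (TN.leaf (nat_lit 0)) (TN.leaf (nat_lit 0))))))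
def C_t5 : TN := (TN.node (TN.node (TN.node (TN.node (TN.leaf (nat_lit 0x1000000000000000000000000000000000000000000000000000000000000000000000000000000000000000000000000000000000000000000000000000000000000000000000000000000000000000000000000000000000000000000000000000000000000000000000000000000000000000000000000000000000000000000000000000000000000000000000000000000000000000000000000000000000000000000000000)) (TN.leaf (nat_lit 0))) (TN.node (TN.leaf (nat_lit 0)) (TN.leaf (nat_lit 0)))) (TN.node (TN.node (TN.leaf (nat_lit 0)) (TN.leaf (nat_lit 0))) (TN.node (TN.leaf (nat_lit 0)) (TN.leaf (nat_lit 0))))) (TN.node (TN.node (TN.node (TN.leaf (nat_lit 0)) (TN.leaf (nat_lit 0))) (TN.node (TN.leaf (nat_lit 0)) (TN.leaf (nat_lit 0)))) (TN.node (TN.node (TN.leaf (nat_lit 0)) (TN.leaf (nat_lit 0))) (TN.node (TN.leaf (nat_lit 0)) (TN.leaf (nat_lit 0))))))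
def C_t6 : TN := (TN.node C_t4 C_t5)
def C_t : TN := (TN.node C_t3 C_t6)
noncomputable def C (i : ℕ) : ℕ := TN.get C_t i
def e (i : ℕ) : ℕ := Nat.land (Nat.shiftRight (nat_lit 0) (Nat.mul (nat_lit 1) i)) (nat_lit 1)
def U_t : TL := (TL.node (TL.node (TL.node (TL.node (TL.node (TL.node (TL.leaf [nat_lit 3]) (TL.leaf [nat_lit 11])) (TL.node (TL.leaf [nat_lit 6]) (TL.leaf [nat_lit 7]))) (TL.node (TL.node (TL.leaf [nat_lit 4]) (TL.leaf [nat_lit 7])) (TL.leaf [nat_lit 9]))) (TL.node (TL.node (TL.node (TL.leaf [nat_lit 3]) (TL.leaf [nat_lit 11])) (TL.node (TL.leaf [nat_lit 3]) (TL.leaf [nat_lit 12]))) (TL.node (TL.node (TL.leaf [nat_lit 12]) (TL.leaf [nat_lit 11])) (TL.leaf [nat_lit 11])))) (TL.node (TL.node (TL.node (TL.node (TL.leaf [nat_lit 5]) (TL.leaf [nat_lit 11])) (TL.node (TL.leaf [nat_lit 11]) (TL.leaf [nat_lit 12]))) (TL.node (TL.node (TL.leaf [nat_lit 7]) (TL.leaf [nat_lit 5])) (TL.leaf [nat_lit 4]))) (TL.node (TL.node (TL.node (TL.leaf [nat_lit 2]) (TL.leaf [nat_lit 11])) (TL.node (TL.leaf [nat_lit 2]) (TL.leaf [nat_lit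 12]))) (TL.node (TL.node (TL.leaf [nat_lit 12]) (TL.leaf [nat_lit 9])) (TL.leaf [nat_lit 5]))))) (TL.node (TL.node (TL.node (TL.node (TL.node (TL.leaf [nat_lit 4]) (TL.leaf [nat_lit 6])) (TL.node (TL.leaf [nat_lit 10]) (TL.leaf [nat_lit 12]))) (TL.node (TL.node (TL.leaf [nat_lit 5]) (TL.leaf [nat_lit 6])) (TL.leaf [nat_lit 11]))) (TL.node (TL.node (TL.node (TL.leaf [nat_lit 11]) (TL.leaf [nat_lit 12])) (TL.node (TL.leaf [nat_lit 6]) (TL.leaf [nat_lit 12]))) (TL.node (TL.node (TL.leaf [nat_lit 5]) (TL.leaf [nat_lit 11])) (TL.leaf [nat_lit 3])))) (TL.node (TL.node (TL.node (TL.node (TL.leaf [nat_lit 8]) (TL.leaf [nat_lit 12])) (TL.node (TL.leaf [nat_lit 12]) (TL.leaf [nat_lit 12]))) (TL.node (TL.node (TL.leaf [nat_lit 5]) (TL.leaf [nat_lit 11])) (TL.leaf [nat_lit 5]))) (TL.node (TL.node (TL.node (TL.leaf [nat_lit 3]) (TL.leaf [nat_lit 8])) (TL.leaf [nat_lit 3])) (TL.node (TL.node (TL.leaf [nat_lit 3]) (TL.leaf [nat_lit 12])) (TL.leaf [nat_lit 6]))))))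
noncomputable def U (i : ℕ) : List ℕ := TL.get U_t i
def V1_t : TL := (TL.node (TL.node (TL.node (TL.node (TL.node (TL.node (TL.leaf [nat_lit 3, nat_lit 3]) (TL.leaf [nat_lit 3, nat_lit 8])) (TL.node (TL.leaf [nat_lit 6, nat_lit 9]) (TL.leaf [nat_lit 10, nat_lit 10]))) (TL.node (TL.node (TL.leaf [nat_lit 4, nat_lit 9]) (TL.leaf [nat_lit 7, nat_lit 9])) (TL.leaf [nat_lit 9, nat_lit 9]))) (TL.node (TL.node (TL.node (TL.leaf [nat_lit 6, nat_lit 6]) (TL.leaf [nat_lit 4, nat_lit 8])) (TL.node (TL.leaf [nat_lit 4, nat_lit 8]) (TL.leaf [nat_lit 3, nat_lit 8]))) (TL.node (TL.node (TL.leaf [nat_lit 5, nat_lit 5]) (TL.leaf [nat_lit 4, nat_lit 4])) (TL.leaf [nat_lit 5, nat_lit 5])))) (TL.node (TL.node (TL.node (TL.node (TL.leaf [nat_lit 5, nat_lit 5]) (TL.leaf [nat_lit 7, nat_lit 8])) (TL.node (TL.leaf [nat_lit 8, nat_lit 8]) (TL.leaf [nat_lit 9, nat_lit 9]))) (TL.node (TL.node (TL.leaf [nat_lit 7, nat_lit 7]) (TL.leaf [nat_lit 6, nat_lit 10])) (TL.leaf [nat_lit 9, nat_lit 9]))) (TL.node (TL.node (TL.node (TL.leaf [nat_lit 3, nat_lit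 3]) (TL.leaf [nat_lit 5, nat_lit 8])) (TL.node (TL.leaf [nat_lit 10, nat_lit 10]) (TL.leaf [nat_lit 7, nat_lit 8]))) (TL.node (TL.node (TL.leaf [nat_lit 2, nat_lit 2]) (TL.leaf [nat_lit 9, nat_lit 10])) (TL.leaf [nat_lit 10, nat_lit 10]))))) (TL.node (TL.node (TL.node (TL.node (TL.node (TL.leaf [nat_lit 4, nat_lit 4]) (TL.leaf [nat_lit 9, nat_lit 9])) (TL.node (TL.leaf [nat_lit 10, nat_lit 10]) (TL.leaf [nat_lit 7, nat_lit 7]))) (TL.node (TL.node (TL.leaf [nat_lit 5, nat_lit 7]) (TL.leaf [nat_lit 8, nat_lit 9])) (TL.leaf [nat_lit 3, nat_lit 3]))) (TL.node (TL.node (TL.node (TL.leaf [nat_lit 2, nat_lit 2]) (TL.leaf [nat_lit 3, nat_lit 5])) (TL.node (TL.leaf [nat_lit 7, nat_lit 7]) (TL.leaf [nat_lit 8, nat_lit 9]))) (TL.node (TL.node (TL.leaf [nat_lit 7, nat_lit 7]) (TL.leaf [nat_lit 4, nat_lit 5])) (TL.leaf [nat_lit 9, nat_lit 9])))) (TL.node (TL.node (TL.node (TL.node (TL.leaf [nat_lit 8, nat_lit 8]) (TL.leaf [nat_lit 5, nat_lit 7])) (TL.node (TL.leaf [nat_lit 4, nat_lit 4]) (TL.leaf [nat_lit 8, nat_lit 8]))) (TL.node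 (TL.node (TL.leaf [nat_lit 6, nat_lit 6]) (TL.leaf [nat_lit 6, nat_lit 8])) (TL.leaf [nat_lit 5, nat_lit 10]))) (TL.node (TL.node (TL.node (TL.leaf [nat_lit 3, nat_lit 10]) (TL.leaf [nat_lit 9, nat_lit 9])) (TL.leaf [nat_lit 10, nat_lit 10])) (TL.node (TL.node (TL.leaf [nat_lit 8, nat_lit 8]) (TL.leaf [nat_lit 3, nat_lit 3])) (TL.leaf [nat_lit 10, nat_lit 10]))))))
noncomputable def V1 (i : ℕ) : List ℕ := TL.get V1_t i
def V2_t : TL := (TL.node (TL.node (TL.node (TL.node (TL.node (TL.node (TL.leaf [nat_lit 1]) (TL.leaf [nat_lit 8, nat_lit 3, nat_lit 2])) (TL.node (TL.leaf [nat_lit 9, nat_lit 6, nat_lit 3]) (TL.leaf [nat_lit 4, nat_lit 3, nat_lit 1]))) (TL.node (TL.node (TL.leaf [nat_lit 9, nat_lit 4]) (TL.leaf [nat_lit 9, nat_lit 7, nat_lit 5, nat_lit 4])) (TL.leaf [nat_lit 5, nat_lit 4, nat_lit 2]))) (TL.node (TL.node (TL.node (TL.leaf []) (TL.leaf [nat_lit 8, nat_lit 4])) (TL.node (TL.leaf [nat_lit 8, nat_lit 4]) (TL.leaf [nat_lit 8, nat_lit 3, nat_lit 2]))) (TL.node (TL.node (TL.leaf [nat_lit 1]) (TL.leaf [nat_lit 1]))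 (TL.leaf [nat_lit 1])))) (TL.node (TL.node (TL.node (TL.node (TL.leaf [nat_lit 1]) (TL.leaf [nat_lit 8, nat_lit 7, nat_lit 2])) (TL.node (TL.leaf [nat_lit 1]) (TL.leaf [nat_lit 5, nat_lit 4, nat_lit 2]))) (TL.node (TL.node (TL.leaf [nat_lit 2, nat_lit 1]) (TL.leaf [nat_lit 10, nat_lit 6, nat_lit 3, nat_lit 1])) (TL.leaf [nat_lit 5, nat_lit 4, nat_lit 2]))) (TL.node (TL.node (TL.node (TL.leaf [nat_lit 1]) (TL.leaf [nat_lit 8, nat_lit 5, nat_lit 1])) (TL.node (TL.leaf [nat_lit 4, nat_lit 3, nat_lit 1]) (TL.leaf [nat_lit 8, nat_lit 7, nat_lit 2]))) (TL.node (TL.node (TL.leaf []) (TL.leaf [nat_lit 10, nat_lit 9, nat_lit 6, nat_lit 5, nat_lit 4, nat_lit 3, nat_lit 2, nat_lit 1])) (TL.leaf [nat_lit 4, nat_lit 3, nat_lit 1]))))) (TL.node (TL.node (TL.node (TL.node (TL.node (TL.leaf [nat_lit 1]) (TL.leaf [nat_lit 5, nat_lit 4, nat_lit 2])) (TL.node (TL.leaf [nat_lit 4, nat_lit 3, nat_lit 1]) (TL.leaf [nat_lit 2, nat_lit 1]))) (TL.node (TL.node (TL.leaf [nat_lit 7, nat_lit 5]) (TL.leaf [nat_lit 9, nat_lit 8, nat_lit 5, nat_lit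 2])) (TL.leaf [nat_lit 1]))) (TL.node (TL.node (TL.node (TL.leaf []) (TL.leaf [nat_lit 5, nat_lit 3, nat_lit 1])) (TL.node (TL.leaf [nat_lit 2, nat_lit 1]) (TL.leaf [nat_lit 9, nat_lit 8, nat_lit 5, nat_lit 2]))) (TL.node (TL.node (TL.leaf [nat_lit 2, nat_lit 1]) (TL.leaf [nat_lit 5, nat_lit 4])) (TL.leaf [nat_lit 5, nat_lit 4, nat_lit 2])))) (TL.node (TL.node (TL.node (TL.node (TL.leaf [nat_lit 1]) (TL.leaf [nat_lit 7, nat_lit 5])) (TL.node (TL.leaf [nat_lit 1]) (TL.leaf [nat_lit 1]))) (TL.node (TL.node (TL.leaf []) (TL.leaf [nat_lit 8, nat_lit 6, nat_lit 1])) (TL.leaf [nat_lit 10, nat_lit 5, nat_lit 3, nat_lit 1]))) (TL.node (TL.node (TL.node (TL.leaf [nat_lit 10, nat_lit 3]) (TL.leaf [nat_lit 5, nat_lit 4, nat_lit 2])) (TL.leaf [nat_lit 4, nat_lit 3, nat_lit 1])) (TL.node (TL.node (TL.leaf [nat_lit 1]) (TL.leaf [nat_lit 1])) (TL.leaf [nat_lit 4, nat_lit 3, nat_lit 1]))))))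
noncomputable def V2 (i : ℕ) : List ℕ := TL.get V2_t i
def Y_t : TL := (TL.node (TL.node (TL.node (TL.node (TL.leaf [nat_lit 7, nat_lit 4, nat_lit 3, nat_lit 2, nat_lit 1]) (TL.leaf [nat_lit 10, nat_lit 9, nat_lit 7, nat_lit 6, nat_lit 5, nat_lit 2])) (TL.leaf [nat_lit 6, nat_lit 5, nat_lit 3, nat_lit 1])) (TL.node (TL.leaf [nat_lit 1]) (TL.leaf [nat_lit 9, nat_lit 6, nat_lit 4]))) (TL.node (TL.node (TL.node (TL.leaf [nat_lit 2, nat_lit 1]) (TL.leaf [nat_lit 8, nat_lit 2])) (TL.leaf [nat_lit 7, nat_lit 6, nat_lit 3, nat_lit 1])) (TL.node (TL.leaf [nat_lit 7, nat_lit 5, nat_lit 3, nat_lit 2]) (TL.leaf [nat_lit 6, nat_lit 3]))))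
noncomputable def Y (i : ℕ) : List ℕ := TL.get Y_t i
def O_t : TL := (TL.node (TL.node (TL.node (TL.node (TL.leaf [nat_lit 1]) (TL.leaf [nat_lit 0, nat_lit 227])) (TL.leaf [nat_lit 32])) (TL.node (TL.leaf [nat_lit 2]) (TL.leaf [nat_lit 211]))) (TL.node (TL.node (TL.node (TL.leaf [nat_lit 3]) (TL.leaf [nat_lit 0, nat_lit 227, nat_lit 245, nat_lit 516])) (TL.leaf [nat_lit 32, nat_lit 396])) (TL.node (TL.leaf [nat_lit 2, nat_lit 191]) (TL.leaf [nat_lit 0]))))
noncomputable def O (i : ℕ) : List ℕ := TL.get O_t i
noncomputable def f1 : ℕ → ℕ := rvE Q B (nat_lit 23) Ru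
noncomputable def f2 (j : ℕ) : ℕ := rlE I Ru (nat_lit 72) (nat_lit 2) (U j) (V1 j) (V2 j) (D j)
noncomputable def f3 : ℕ → ℕ := tgR I Ru (nat_lit 72) (nat_lit 2) (nat_lit 2) C D (nat_lit 55) La
noncomputable def f4 : ℕ → ℕ := chE Q B (nat_lit 552) (nat_lit 23) (nat_lit 10) (nat_lit 13) Y O
theorem ra0 : Nat.beq (rng f1 (nat_lit 0) (nat_lit 72)) (nat_lit 0) = true := by decide +kernel
theorem rb0 : Nat.beq (rng f2 (nat_lit 0) (nat_lit 55)) (nat_lit 0) = true := by decide +kernel
theorem rc0 : Nat.beq (rng f3 (nat_lit 0) (nat_lit 10)) (nat_lit 0) = true := by decide +kernel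
theorem rd0 : Nat.beq (rng f4 (nat_lit 0) (nat_lit 10)) (nat_lit 0) = true := by decide +kernel
theorem h1 : ∀ i < 72, f1 i = 0 := by
  have h := zero_lt_zero f1
  have h := zero_lt_add (a := (nat_lit 0)) (n := (nat_lit 72)) (b := (nat_lit 72)) h ra0 rfl
  exact h
theorem h2 : ∀ i < 55, f2 i = 0 := by
  have h := zero_lt_zero f2
  have h := zero_lt_add (a := (nat_lit 0)) (n := (nat_lit 55)) (b := (nat_lit 55)) h rb0 rfl
  exact h
theorem h3 : ∀ i < 10, f3 i = 0 := by
  have h := zero_lt_zero f3
  have h := zero_lt_add (a := (nat_lit 0)) (n := (nat_lit 10)) (b := (nat_lit 10)) h rc0 rfl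
  exact h
theorem h4 : ∀ i < 10, f4 i = 0 := by
  have h := zero_lt_zero f4
  have h := zero_lt_add (a := (nat_lit 0)) (n := (nat_lit 10)) (b := (nat_lit 10)) h rd0 rfl
  exact h
theorem nok : NoK (Cfsg.Spor.Co3) (2 ^ (0 + 1)) := fun _ _ _ _ h =>
  (md.rv (I := I) (K := 72) rfl ⟨rfl, by decide⟩ (upTo_beq (by decide +kernel)) h1).core h (by norm_num)
    (md.syl (by norm_num) rfl (by decide) h4) (by rw [Co3.card]; decide) (n := 2) (s := 0) (e := e) (L := Le) (C := C)
    ⟨rfl, by decide, rfl, by decide, by decide, rfl, by decide⟩ h2 (upTo_beq (by decide +kernel)) (upTo_beq (by decide +kernel)) h3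

end Cfsg.Agent.Ct.Co3s.S2
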