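import Cfsg.Agent.Lib.Cert.Co3.M
import Cfsg.Agent.Lib.Cert.Sch2

set_option autoImplicit false
set_option maxRecDepth 100000

namespace Cfsg.Agent.Ct.Co3s.S3

open Cfsg.Agent.PC

open Cfsg.Agent.Fi Cfsg.Agent.Ct
def W_t : TL := (TL.node (TL.node (TL.node (TL.node (TL.node (TL.leaf []) (TL.leaf [nat_lit 0, nat_lit 2, nat_lit 0, nat_lit 1, nat_lit 0, nat_lit 3, nat_lit 1, nat_lit 0, nat_lit 2, nat_lit 0, nat_lit 1, nat_lit 3, nat_lit 1, nat_lit 3, nat_lit 2, nat_lit 3, nat_lit 2, nat_lit 3, nat_lit 1, nat_lit 3, nat_lit 1, nat_lit 0, nat_lit 2, nat_lit 0, nat_lit 1, nat_lit 3, nat_lit 0, nat_lit 1, nat_lit 0, nat_lit 2, nat_lit 1, nat_lit 0, nat_lit 1, nat_lit 3, nat_lit 1, nat_lit 0, nat_lit 1, nat_lit 0, nat_lit 1, nat_lit 3, nat_lit 0, nat_lit 1, nat_lit 3, nat_lit 0, nat_lit 1, nat_lit 3, nat_lit 1, nat_lit 0, nat_lit 1, nat_lit 2, nat_lit 0, nat_lit 1, nat_lit 2, nat_lit 3, nat_lit 2, nat_lit 1, nat_lit 2, nat_lit 3, nat_lit 2, nat_lit 3, nat_lit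 1, nat_lit 3, nat_lit 0, nat_lit 1, nat_lit 3, nat_lit 0, nat_lit 1, nat_lit 3, nat_lit 0, nat_lit 3, nat_lit 2, nat_lit 3, nat_lit 2, nat_lit 0, nat_lit 1, nat_lit 3, nat_lit 0, nat_lit 3, nat_lit 1, nat_lit 3, nat_lit 0, nat_lit 2, nat_lit 1, nat_lit 0, nat_lit 1, nat_lit 3, nat_lit 0, nat_lit 3])) (TL.leaf [nat_lit 0, nat_lit 1, nat_lit 3, nat_lit 2, nat_lit 3, nat_lit 1, nat_lit 0, nat_lit 3, nat_lit 2, nat_lit 3, nat_lit 2, nat_lit 3, nat_lit 0, nat_lit 3, nat_lit 1, nat_lit 3, nat_lit 1, nat_lit 3, nat_lit 0, nat_lit 3, nat_lit 2, nat_lit 3, nat_lit 2, nat_lit 3, nat_lit 1, nat_lit 3, nat_lit 2, nat_lit 3, nat_lit 1, nat_lit 2, nat_lit 0, nat_lit 1, nat_lit 2, nat_lit 0, nat_lit 2, nat_lit 1, nat_lit 2, nat_lit 3, nat_lit 2, nat_lit 3, nat_lit 2, nat_lit 1, nat_lit 2, nat_lit 0, nat_lit 2, nat_lit 1, nat_lit 0, nat_lit 2, nat_lit 3, nat_lit 1, nat_lit 2, nat_lit 1, nat_lit 0, nat_lit 1, nat_lit 2, nat_lit 1, nat_lit 3, nat_lit 1, nat_lit 3, nat_lit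 2, nat_lit 3, nat_lit 0, nat_lit 3, nat_lit 0, nat_lit 3, nat_lit 2, nat_lit 3, nat_lit 1, nat_lit 2, nat_lit 0, nat_lit 2, nat_lit 3, nat_lit 2, nat_lit 3, nat_lit 2, nat_lit 0, nat_lit 2, nat_lit 3, nat_lit 2, nat_lit 3, nat_lit 2, nat_lit 3, nat_lit 1, nat_lit 0, nat_lit 3, nat_lit 0, nat_lit 2, nat_lit 1, nat_lit 2, nat_lit 0, nat_lit 2, nat_lit 3, nat_lit 1, nat_lit 2])) (TL.node (TL.leaf [nat_lit 3, nat_lit 2, nat_lit 3, nat_lit 2, nat_lit 3, nat_lit 0, nat_lit 3, nat_lit 1, nat_lit 3, nat_lit 1, nat_lit 3, nat_lit 0, nat_lit 3, nat_lit 2, nat_lit 3, nat_lit 2, nat_lit 3, nat_lit 2, nat_lit 0, nat_lit 3, nat_lit 1, nat_lit 0, nat_lit 1, nat_lit 3, nat_lit 1, nat_lit 0, nat_lit 1, nat_lit 3, nat_lit 0, nat_lit 3, nat_lit 2, nat_lit 1, nat_lit 3, nat_lit 1, nat_lit 2, nat_lit 3, nat_lit 2, nat_lit 1, nat_lit 0, nat_lit 2, nat_lit 3, nat_lit 2, nat_lit 0, nat_lit 3, nat_lit 2, nat_lit 3, nat_lit 0, nat_lit 3, nat_lit 0, nat_lit 3, nat_lit 2, nat_lit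 3, nat_lit 1, nat_lit 3, nat_lit 0, nat_lit 3, nat_lit 1, nat_lit 0, nat_lit 3, nat_lit 0, nat_lit 1, nat_lit 2, nat_lit 0, nat_lit 3, nat_lit 0, nat_lit 2, nat_lit 3, nat_lit 0, nat_lit 3, nat_lit 1, nat_lit 2, nat_lit 1]) (TL.leaf [nat_lit 0, nat_lit 1, nat_lit 0, nat_lit 3, nat_lit 1, nat_lit 3, nat_lit 1, nat_lit 3, nat_lit 0, nat_lit 3, nat_lit 0, nat_lit 1, nat_lit 0, nat_lit 3, nat_lit 1, nat_lit 2, nat_lit 1, nat_lit 0, nat_lit 2, nat_lit 0, nat_lit 1, nat_lit 3, nat_lit 1, nat_lit 2, nat_lit 0, nat_lit 2, nat_lit 3, nat_lit 2, nat_lit 3, nat_lit 2, nat_lit 1, nat_lit 2, nat_lit 0, nat_lit 2, nat_lit 1, nat_lit 0, nat_lit 3, nat_lit 2, nat_lit 1, nat_lit 3, nat_lit 1, nat_lit 2, nat_lit 3, nat_lit 0, nat_lit 1, nat_lit 2, nat_lit 0, nat_lit 2, nat_lit 1, nat_lit 0, nat_lit 3, nat_lit 2, nat_lit 1, nat_lit 3, nat_lit 1, nat_lit 2, nat_lit 3, nat_lit 2, nat_lit 0, nat_lit 1, nat_lit 0, nat_lit 1, nat_lit 3, nat_lit 1, nat_lit 0, nat_lit 1, nat_lit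 0, nat_lit 1, nat_lit 3, nat_lit 1, nat_lit 0, nat_lit 2, nat_lit 0, nat_lit 1, nat_lit 3, nat_lit 2, nat_lit 3, nat_lit 2, nat_lit 0, nat_lit 1, nat_lit 2, nat_lit 3, nat_lit 1, nat_lit 3, nat_lit 2]))) (TL.node (TL.node (TL.leaf [nat_lit 1, nat_lit 3, nat_lit 1, nat_lit 0, nat_lit 2, nat_lit 0, nat_lit 1, nat_lit 3, nat_lit 1, nat_lit 0, nat_lit 1, nat_lit 0, nat_lit 1, nat_lit 3, nat_lit 1, nat_lit 0, nat_lit 1, nat_lit 0, nat_lit 1, nat_lit 3, nat_lit 2, nat_lit 3, nat_lit 1, nat_lit 3, nat_lit 2, nat_lit 3, nat_lit 2, nat_lit 0, nat_lit 3, nat_lit 2, nat_lit 1, nat_lit 2, nat_lit 3, nat_lit 1, nat_lit 2, nat_lit 0, nat_lit 2, nat_lit 1]) (TL.leaf [nat_lit 2, nat_lit 0, nat_lit 1, nat_lit 2, nat_lit 0, nat_lit 2, nat_lit 0, nat_lit 2, nat_lit 0, nat_lit 3, nat_lit 0, nat_lit 2, nat_lit 0, nat_lit 3, nat_lit 1, nat_lit 0, nat_lit 2, nat_lit 0, nat_lit 1, nat_lit 2, nat_lit 0, nat_lit 2, nat_lit 1, nat_lit 0, nat_lit 1, nat_lit 0, nat_lit 2, nat_lit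 3, nat_lit 2, nat_lit 0, nat_lit 1, nat_lit 3, nat_lit 1, nat_lit 3, nat_lit 1, nat_lit 3, nat_lit 2, nat_lit 3, nat_lit 1, nat_lit 3, nat_lit 1, nat_lit 3, nat_lit 2, nat_lit 0, nat_lit 2, nat_lit 0, nat_lit 2, nat_lit 1, nat_lit 2, nat_lit 1, nat_lit 0, nat_lit 3, nat_lit 0, nat_lit 1, nat_lit 2, nat_lit 1, nat_lit 0, nat_lit 2, nat_lit 1, nat_lit 2, nat_lit 1])) (TL.node (TL.leaf [nat_lit 3, nat_lit 1, nat_lit 2, nat_lit 1, nat_lit 0, nat_lit 1, nat_lit 2, nat_lit 1, nat_lit 3, nat_lit 2, nat_lit 0, nat_lit 1, nat_lit 2, nat_lit 0, nat_lit 2, nat_lit 1, nat_lit 2, nat_lit 3, nat_lit 2, nat_lit 3, nat_lit 2, nat_lit 0, nat_lit 2, nat_lit 0, nat_lit 1, nat_lit 2, nat_lit 3, nat_lit 0, nat_lit 2, nat_lit 0, nat_lit 3, nat_lit 2, nat_lit 1, nat_lit 0, nat_lit 1, nat_lit 0, nat_lit 2, nat_lit 3, nat_lit 2, nat_lit 0, nat_lit 3, nat_lit 0, nat_lit 1, nat_lit 3, nat_lit 0, nat_lit 1, nat_lit 3, nat_lit 0, nat_lit 3, nat_lit 1, nat_lit 0, nat_lit 2, nat_lit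 0, nat_lit 3, nat_lit 2, nat_lit 3, nat_lit 2, nat_lit 3, nat_lit 2, nat_lit 3, nat_lit 1, nat_lit 2, nat_lit 3, nat_lit 0, nat_lit 3, nat_lit 0, nat_lit 2, nat_lit 0, nat_lit 3]) (TL.leaf [nat_lit 2, nat_lit 0, nat_lit 1, nat_lit 2, nat_lit 0, nat_lit 2, nat_lit 1, nat_lit 0, nat_lit 2, nat_lit 1, nat_lit 3, nat_lit 2, nat_lit 3, nat_lit 0, nat_lit 1, nat_lit 0, nat_lit 2, nat_lit 0, nat_lit 1, nat_lit 0, nat_lit 3, nat_lit 0, nat_lit 1, nat_lit 0, nat_lit 2, nat_lit 0, nat_lit 1, nat_lit 0, nat_lit 3, nat_lit 2, nat_lit 1, nat_lit 0, nat_lit 2, nat_lit 0, nat_lit 1, nat_lit 3, nat_lit 0, nat_lit 3, nat_lit 1, nat_lit 0, nat_lit 2, nat_lit 3, nat_lit 1, nat_lit 3, nat_lit 1, nat_lit 3, nat_lit 0, nat_lit 1, nat_lit 0, nat_lit 3, nat_lit 0, nat_lit 1, nat_lit 2, nat_lit 1, nat_lit 3, nat_lit 1, nat_lit 0, nat_lit 3, nat_lit 2, nat_lit 1, nat_lit 3, nat_lit 2, nat_lit 1, nat_lit 2, nat_lit 3, nat_lit 0, nat_lit 3])))) (TL.node (TL.node (TL.node (TL.leaf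 [nat_lit 0, nat_lit 1, nat_lit 0, nat_lit 3, nat_lit 1, nat_lit 3, nat_lit 1, nat_lit 3, nat_lit 0, nat_lit 3, nat_lit 0, nat_lit 1, nat_lit 0, nat_lit 3, nat_lit 1, nat_lit 2, nat_lit 1, nat_lit 0, nat_lit 2, nat_lit 0, nat_lit 1, nat_lit 3, nat_lit 1, nat_lit 2, nat_lit 0, nat_lit 2, nat_lit 3, nat_lit 2, nat_lit 3, nat_lit 2, nat_lit 1, nat_lit 2, nat_lit 0, nat_lit 2, nat_lit 1, nat_lit 0, nat_lit 3, nat_lit 2, nat_lit 1, nat_lit 3, nat_lit 1, nat_lit 2, nat_lit 3, nat_lit 0, nat_lit 1, nat_lit 2, nat_lit 0, nat_lit 2, nat_lit 1, nat_lit 0, nat_lit 3, nat_lit 2, nat_lit 1, nat_lit 3, nat_lit 1, nat_lit 2, nat_lit 3, nat_lit 2, nat_lit 0, nat_lit 1, nat_lit 0, nat_lit 1, nat_lit 3, nat_lit 1, nat_lit 0, nat_lit 1, nat_lit 0, nat_lit 1, nat_lit 3, nat_lit 1, nat_lit 0, nat_lit 2, nat_lit 0, nat_lit 1, nat_lit 3, nat_lit 2, nat_lit 3, nat_lit 2, nat_lit 0, nat_lit 1, nat_lit 2, nat_lit 3, nat_lit 1, nat_lit 3, nat_lit 2]) (TL.leaf [nat_lit 2, nat_lit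 0, nat_lit 1, nat_lit 2, nat_lit 0, nat_lit 2, nat_lit 0, nat_lit 2, nat_lit 0, nat_lit 3, nat_lit 0, nat_lit 2, nat_lit 0, nat_lit 3, nat_lit 1, nat_lit 0, nat_lit 2, nat_lit 0, nat_lit 1, nat_lit 2, nat_lit 0, nat_lit 2, nat_lit 1, nat_lit 0, nat_lit 3, nat_lit 0, nat_lit 2, nat_lit 3, nat_lit 2, nat_lit 3, nat_lit 1, nat_lit 3, nat_lit 1, nat_lit 3, nat_lit 0, nat_lit 1, nat_lit 3, nat_lit 1, nat_lit 3, nat_lit 1, nat_lit 3, nat_lit 2, nat_lit 0, nat_lit 1, nat_lit 3, nat_lit 0, nat_lit 2, nat_lit 3, nat_lit 2, nat_lit 0, nat_lit 1, nat_lit 2, nat_lit 0, nat_lit 1, nat_lit 0, nat_lit 3, nat_lit 1, nat_lit 3, nat_lit 1, nat_lit 2, nat_lit 1, nat_lit 0, nat_lit 1, nat_lit 2, nat_lit 0, nat_lit 1, nat_lit 0, nat_lit 1, nat_lit 2, nat_lit 3])) (TL.node (TL.leaf [nat_lit 1, nat_lit 3, nat_lit 2, nat_lit 3, nat_lit 1, nat_lit 0, nat_lit 1, nat_lit 3, nat_lit 2, nat_lit 3, nat_lit 1, nat_lit 2, nat_lit 3, nat_lit 2, nat_lit 1, nat_lit 3, nat_lit 1, nat_lit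 3, nat_lit 2, nat_lit 1, nat_lit 3, nat_lit 2, nat_lit 3, nat_lit 1, nat_lit 3, nat_lit 0, nat_lit 3, nat_lit 1, nat_lit 0, nat_lit 3, nat_lit 2, nat_lit 3, nat_lit 2, nat_lit 0, nat_lit 1, nat_lit 0, nat_lit 1, nat_lit 2, nat_lit 1, nat_lit 2, nat_lit 3, nat_lit 1, nat_lit 0, nat_lit 2, nat_lit 3, nat_lit 2, nat_lit 0, nat_lit 1, nat_lit 3, nat_lit 2, nat_lit 1, nat_lit 2, nat_lit 1, nat_lit 0, nat_lit 3, nat_lit 0, nat_lit 1, nat_lit 2, nat_lit 0, nat_lit 3, nat_lit 0, nat_lit 1, nat_lit 3, nat_lit 2, nat_lit 3, nat_lit 1, nat_lit 3, nat_lit 1, nat_lit 0, nat_lit 3, nat_lit 1, nat_lit 2, nat_lit 3, nat_lit 2, nat_lit 0, nat_lit 1, nat_lit 2, nat_lit 3, nat_lit 2, nat_lit 3, nat_lit 2, nat_lit 3, nat_lit 2, nat_lit 1, nat_lit 2, nat_lit 0, nat_lit 3, nat_lit 0, nat_lit 2]) (TL.leaf [nat_lit 3, nat_lit 0, nat_lit 1, nat_lit 2, nat_lit 0, nat_lit 3, nat_lit 0, nat_lit 3, nat_lit 1, nat_lit 3, nat_lit 1, nat_lit 0, nat_lit 2, nat_lit 3, nat_lit 2, nat_lit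 0, nat_lit 1, nat_lit 3, nat_lit 0, nat_lit 2, nat_lit 3, nat_lit 2, nat_lit 3, nat_lit 1, nat_lit 3, nat_lit 1, nat_lit 3, nat_lit 0, nat_lit 2, nat_lit 3, nat_lit 0, nat_lit 2, nat_lit 0, nat_lit 3, nat_lit 2, nat_lit 1, nat_lit 0, nat_lit 2, nat_lit 0, nat_lit 1, nat_lit 2, nat_lit 0, nat_lit 2, nat_lit 1, nat_lit 2, nat_lit 3, nat_lit 2, nat_lit 3, nat_lit 2, nat_lit 0, nat_lit 2, nat_lit 3, nat_lit 1, nat_lit 3, nat_lit 0, nat_lit 3, nat_lit 0, nat_lit 2, nat_lit 1, nat_lit 0, nat_lit 3, nat_lit 0, nat_lit 1, nat_lit 0, nat_lit 3, nat_lit 1, nat_lit 3, nat_lit 1, nat_lit 0, nat_lit 2, nat_lit 0, nat_lit 1, nat_lit 0, nat_lit 1, nat_lit 0, nat_lit 1, nat_lit 0, nat_lit 2, nat_lit 3, nat_lit 0]))) (TL.node (TL.node (TL.leaf [nat_lit 2, nat_lit 1, nat_lit 2, nat_lit 1, nat_lit 3, nat_lit 2, nat_lit 0, nat_lit 1, nat_lit 0, nat_lit 1, nat_lit 0, nat_lit 2, nat_lit 3, nat_lit 1, nat_lit 2, nat_lit 1, nat_lit 0, nat_lit 2, nat_lit 3, nat_lit 2, nat_lit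 3, nat_lit 2, nat_lit 0, nat_lit 3, nat_lit 1, nat_lit 0, nat_lit 1, nat_lit 0, nat_lit 3, nat_lit 0, nat_lit 1, nat_lit 0, nat_lit 1, nat_lit 3, nat_lit 2, nat_lit 3, nat_lit 1, nat_lit 3, nat_lit 0, nat_lit 3, nat_lit 0, nat_lit 2, nat_lit 1, nat_lit 0, nat_lit 1, nat_lit 2, nat_lit 3, nat_lit 0, nat_lit 3, nat_lit 0, nat_lit 2, nat_lit 1, nat_lit 2, nat_lit 3, nat_lit 2, nat_lit 3, nat_lit 0, nat_lit 1, nat_lit 0, nat_lit 3, nat_lit 1, nat_lit 3, nat_lit 0, nat_lit 1, nat_lit 2, nat_lit 3, nat_lit 1]) (TL.leaf [nat_lit 2, nat_lit 0, nat_lit 1, nat_lit 2, nat_lit 0, nat_lit 2, nat_lit 1, nat_lit 0, nat_lit 2, nat_lit 0, nat_lit 1, nat_lit 2, nat_lit 3, nat_lit 0, nat_lit 2, nat_lit 0, nat_lit 3, nat_lit 2, nat_lit 1, nat_lit 0, nat_lit 3, nat_lit 1, nat_lit 2, nat_lit 3, nat_lit 0, nat_lit 3, nat_lit 0, nat_lit 2, nat_lit 3, nat_lit 1, nat_lit 3, nat_lit 2, nat_lit 3, nat_lit 1, nat_lit 3, nat_lit 2, nat_lit 0, nat_lit 3, nat_lit 0, nat_lit 3, nat_lit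 2, nat_lit 1, nat_lit 3, nat_lit 1, nat_lit 0, nat_lit 2, nat_lit 3, nat_lit 2, nat_lit 0, nat_lit 1, nat_lit 0, nat_lit 3, nat_lit 1, nat_lit 3, nat_lit 1, nat_lit 3, nat_lit 2, nat_lit 0, nat_lit 1, nat_lit 3, nat_lit 0, nat_lit 1, nat_lit 2, nat_lit 3, nat_lit 2, nat_lit 1, nat_lit 3, nat_lit 1, nat_lit 2, nat_lit 3, nat_lit 2, nat_lit 3, nat_lit 0, nat_lit 3, nat_lit 2, nat_lit 3, nat_lit 1, nat_lit 2, nat_lit 0, nat_lit 2, nat_lit 1, nat_lit 3, nat_lit 2])) (TL.node (TL.leaf [nat_lit 2, nat_lit 1, nat_lit 2, nat_lit 1, nat_lit 3, nat_lit 2, nat_lit 0, nat_lit 1, nat_lit 0, nat_lit 1, nat_lit 0, nat_lit 2, nat_lit 3, nat_lit 1, nat_lit 2, nat_lit 1, nat_lit 2, nat_lit 0, nat_lit 1, nat_lit 0, nat_lit 3, nat_lit 1, nat_lit 2, nat_lit 1, nat_lit 3, nat_lit 0, nat_lit 1, nat_lit 0, nat_lit 2, nat_lit 0, nat_lit 2, nat_lit 3, nat_lit 2, nat_lit 3, nat_lit 2, nat_lit 0, nat_lit 2, nat_lit 3, nat_lit 0, nat_lit 3, nat_lit 2, nat_lit 0, nat_lit 2, nat_lit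 3, nat_lit 2, nat_lit 3, nat_lit 2, nat_lit 1, nat_lit 0, nat_lit 3, nat_lit 0, nat_lit 1, nat_lit 3, nat_lit 1]) (TL.leaf [nat_lit 2, nat_lit 1, nat_lit 2, nat_lit 1, nat_lit 3, nat_lit 2, nat_lit 0, nat_lit 1, nat_lit 0, nat_lit 1, nat_lit 0, nat_lit 2, nat_lit 3, nat_lit 1, nat_lit 2, nat_lit 1, nat_lit 2, nat_lit 0, nat_lit 1, nat_lit 2, nat_lit 3, nat_lit 0, nat_lit 2, nat_lit 0, nat_lit 3, nat_lit 2, nat_lit 1, nat_lit 0, nat_lit 2, nat_lit 0, nat_lit 2, nat_lit 3, nat_lit 2, nat_lit 3, nat_lit 2, nat_lit 0, nat_lit 2, nat_lit 3, nat_lit 1, nat_lit 3, nat_lit 0, nat_lit 3, nat_lit 0, nat_lit 2, nat_lit 1, nat_lit 0, nat_lit 3, nat_lit 1, nat_lit 3, nat_lit 2, nat_lit 3, nat_lit 0, nat_lit 1, nat_lit 0, nat_lit 2, nat_lit 0, nat_lit 2, nat_lit 1, nat_lit 2, nat_lit 3, nat_lit 1, nat_lit 0])))))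
noncomputable def W (i : ℕ) : List ℕ := TL.get W_t i
def B : List ℕ := [nat_lit 0, nat_lit 1, nat_lit 2, nat_lit 3, nat_lit 5, nat_lit 4]
noncomputable def q (j : ℕ) : Cfsg.Spor.Co3 := ev Co3.al (W j)
noncomputable def Q (j : ℕ) : ℕ → ℕ := trF Co3.T (W j)
theorem md : Md Co3.pt 552 B q Q 17 := (Co3.md0).words' (by decide +kernel)
def I (i : ℕ) : ℕ := Nat.land (Nat.shiftRight (nat_lit 0x9025098270a0290a800000000000000000000000000000000000000000000000000000000000000000000000000000000000000000000000000000000000000000000000000000000000000000000000741e07c200842208c0000000000000000000000000000000000000000000000000000000000000000000000000000000000000000000000000000000000000000000000000000000000000000000000070000000000000000000000000000000000000000000000000000000000000000000000000000000000000000000000000000000000000000000000000000000000000000000000000000000000000006c1500000000000000000000000000000000000000000000000000000000000000000000000000000000000000000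0000000000000000000000000000000000000000000000000000000000000000000681403c00000000000000000000000000000000000000000000000000000000000000000000000000000000000000000000000000000000000000000000000000000000000000000000000000000000064130380a000000000000000000000000000000000000000000000000000000000000000000000000000000000000000000000000000000000000000000000000000000000000000000000000000000060120340901800000000000000000000000000000000000000000000000000000000000000000000000000000000000000000000000000000000000000000000000000000000000000000000000000005c11030080140300000000000000000000000000000000000000000000000000000000000000000000000000000000000000000000000000000000000000000000000000000000000000000000000000581002c0701002004000000000000000000000000000000000000000000000000000000000000000000000000000000000000000000000000000000000000000000000000000000000000000000000000000000000000000000) (Nat.mul (nat_lit 10) i)) (nat_lit 1023)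
def Ru_t1 : TN := (TN.node (TN.node (TN.node (TN.node (TN.leaf (nat_lit 0)) (TN.leaf (nat_lit 0x80820c3104187000000000204242))) (TN.leaf (nat_lit 0x46000000000046082))) (TN.node (TN.node (TN.leaf (nat_lit 0x84000000000084082)) (TN.leaf (nat_lit 0x2420c3000000000243102))) (TN.leaf (nat_lit 0x10c70000000000c70c2)))) (TN.node (TN.node (TN.node (TN.leaf (nat_lit 0x43000000000043082)) (TN.leaf (nat_lit 0x2420830c5147000000000247202))) (TN.leaf (nat_lit 0x1042146000000000146142))) (TN.node (TN.leaf (nat_lit 0x41085000000000085102)) (TN.leaf (nat_lit 0x10000000071c7043)))))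
def Ru_t2 : TN := (TN.node (TN.node (TN.node (TN.node (TN.leaf (nat_lit 0x42000000000042082)) (TN.leaf (nat_lit 0x8042083000000000202142))) (TN.leaf (nat_lit 0x10c60000000000c60c2))) (TN.node (TN.node (TN.leaf (nat_lit 0x4104003)) (TN.leaf (nat_lit 0x241000000000241082))) (TN.leaf (nat_lit 0x410c3147000000000147182)))) (TN.node (TN.node (TN.node (TN.leaf (nat_lit 0x30c3003)) (TN.leaf (nat_lit 0x90410841051461870000000002452c2))) (TN.leaf (nat_lit 0x47000000000047082))) (TN.node (TN.leaf (nat_lit 0x41105000000000105102)) (TN.leaf (nat_lit 0x80410830c51861c70000000002062c2)))))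
def Ru_t3 : TN := (TN.node Ru_t1 Ru_t2)
def Ru_t4 : TN := (TN.node (TN.node (TN.node (TN.node (TN.leaf (nat_lit 0x1041003)) (TN.leaf (nat_lit 0x201043000000000203102))) (TN.leaf (nat_lit 0x86000000000086082))) (TN.node (TN.node (TN.leaf (nat_lit 0x10c40000000000c40c2)) (TN.leaf (nat_lit 0x241043000000000242102))) (TN.leaf (nat_lit 0x420c3107000000000107182)))) (TN.node (TN.node (TN.node (TN.leaf (nat_lit 0x83000000000083082)) (TN.leaf (nat_lit 0x90420830c6187000000000246242))) (TN.leaf (nat_lit 0x1000000006186043))) (TN.node (TN.leaf (nat_lit 0xc50000000000c5082)) (TN.leaf (nat_lit 0x81451861c70000000002071c2)))))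
def Ru_t5 : TN := (TN.node (TN.node (TN.node (TN.node (TN.leaf (nat_lit 0x2082003)) (TN.leaf (nat_lit 0x201000000000201082))) (TN.leaf (nat_lit 0x10c3106000000000106142))) (TN.node (TN.leaf (nat_lit 0x45000000000045082)) (TN.leaf (nat_lit 0x41082187000000000187182)))) (TN.node (TN.node (TN.node (TN.leaf (nat_lit 0x44000000000044082)) (TN.leaf (nat_lit 0x90430c4105146000000000244242))) (TN.leaf (nat_lit 0x10870000000000870c2))) (TN.node (TN.leaf (nat_lit 0x1000000005145043)) (TN.leaf (nat_lit 0x201086187000000000205182)))))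
def Ru_t6 : TN := (TN.node Ru_t4 Ru_t5)
def Ru_t : TN := (TN.node Ru_t3 Ru_t6)
noncomputable def Ru (i : ℕ) : ℕ := TN.get Ru_t i
def D_t1 : TN := (TN.node (TN.node (TN.node (TN.node (TN.leaf (nat_lit 0x10000000000000000000000000000000000000000000000000000000000000000000000000000000000000001)) (TN.leaf (nat_lit 0x200000000000000000000000100000000000000020000000000000000000000010000000200000000000000020000000000000000000000000000000000000011))) (TN.node (TN.leaf (nat_lit 0x1000000000000000000000001000000000000000000000009)) (TN.leaf (nat_lit 0x100000000000000000000000000000002000000010000000100000001000000000000000000000002000000000000000200000000000000000000000000000000000000000000000100000002000000020000000200000000000000010000000000000002000000010000000100000019)))) (TN.node (TN.node (TN.leaf (nat_lit 0x100000000000000000000000000000005)) (TN.leaf (nat_lit 0x2000000000000000000000000000000000000000000000000000000000000000000000000000000000000000000000000000000000000000100000000000000000000000000000000000000010000000100000001000000000000000000000000000000010000000100000000000000000000000000000000000000000000000000000000000000000000000000000002000000000000000000000001000000020000000200000015)))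 (TN.node (TN.leaf (nat_lit 0x2000000000000000000000000000000000000000000000000000000000000000000000000000000000000000100000000000000020000000000000000000000000000000200000000000000000000000000000000000000020000000000000000000000000000000000000000000000000000000000000000000000000000000000000000000000010000000d)) (TN.leaf (nat_lit 0x100000000000000010000000000000000000000000000000000000000000000000000000000000000000000000000000000000000000000000000000200000002000000020000000100000002000000020000000000000002000000000000000000000002000000010000000000000001000000010000000200000002000000000000000100000000000000020000000000000000000000010000000000000000000000020000001d))))) (TN.node (TN.node (TN.node (TN.leaf (nat_lit 0x100000000000000000000000000000000000000000000000000000000000000000000000000000000000000000000000000000000000000000000000000000000000000000000000000000000000000000000000000000003)) (TN.leaf (nat_lit 0x10000000200000000000000000000000000000001000000000000000100000000000000000000000000000002000000020000000000000000000000000000000000000000000000020000000100000000000000010000000100000013)))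 (TN.node (TN.leaf (nat_lit 0x100000000000000020000000000000000000000000000000200000000000000010000000000000000000000020000000000000000000000000000000000000000000000000000000000000002000000020000000000000002000000010000000b)) (TN.leaf (nat_lit 0x1000000000000000100000000000000000000000000000000000000000000000200000000000000000000000000000000000000010000000000000002000000000000000100000001000000010000000000000000000000010000000200000002000000000000000000000000000000000000000100000001000000020000000000000000000000020000001b)))) (TN.node (TN.node (TN.leaf (nat_lit 0x1000000000000000000000002000000000000000200000007)) (TN.leaf (nat_lit 0x1000000010000000000000000000000000000000000000000000000000000000000000000000000000000000000000000000000000000000000000001000000010000000000000000000000000000000100000000000000020000000000000000000000020000000100000000000000000000000200000001000000000000000000000000000000000000000000000001000000010000000200000000000000010000000000000017)))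 (TN.node (TN.leaf (nat_lit 0x2000000000000000000000000000000000000000000000000000000000000000000000000000000000000000100000000000000020000000000000000000000000000000100000000000000000000000000000000000000000000000000000000000000000000000100000000000000000000000000000001000000000000000000000000000000010000000f)) (TN.leaf (nat_lit 0x2000000020000000100000000000000000000000000000000000000000000000000000001000000000000000200000002000000010000000000000001000000010000000200000002000000020000000000000001000000010000000200000001000000000000000000000001000000010000000000000001000000000000000000000002000000010000001f))))))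
def D_t2 : TN := (TN.node (TN.node (TN.node (TN.node (TN.leaf (nat_lit 0x100000000000000000000000000000000000000000000000000000000000000000000000000000000000000000000000000000000000000000000000000000002)) (TN.leaf (nat_lit 0x2000000000000000000000000000000000000000000000000000000000000000000000000000000000000000000000000000000000000000000000000000000000000000000000001000000010000000000000000000000000000000000000000000000000000000000000000000000000000000100000002000000020000000000000000000000000000000000000000000000010000000000000000000000010000000200000012))) (TN.node (TN.leaf (nat_lit 0x1000000000000000000000001000000000000000a)) (TN.leaf (nat_lit 0x1000000000000000000000000000000000000000000000000000000000000000200000000000000020000000200000001000000020000000000000000000000010000000100000002000000010000000000000002000000000000000000000000000000000000000000000001000000010000000100000002000000010000000000000002000000010000001a)))) (TN.node (TN.node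 (TN.leaf (nat_lit 0x100000006)) (TN.leaf (nat_lit 0x2000000000000000000000000000000000000000000000000000000000000000000000000000000000000000000000000000000000000000000000000000000000000000000000001000000000000000200000000000000000000000000000000000000000000000000000002000000000000000100000000000000000000000000000000000000000000000000000001000000000000000200000002000000010000000000000016))) (TN.node (TN.leaf (nat_lit 0x100000000000000020000000000000000000000020000000000000000000000000000000200000002000000010000000000000000000000000000000000000000000000010000000e)) (TN.leaf (nat_lit 0x2000000000000000100000000000000000000000000000000000000000000000000000002000000010000000000000001000000020000000000000002000000000000000200000001000000010000000000000002000000000000000000000002000000000000000000000001000000020000000100000000000000020000000100000000000000010000001e))))) (TN.node (TN.node (TN.node (TN.leaf (nat_lit 0x10000000000000004)) (TN.leaf (nat_lit 0x20000000000000000000000000000000000000000000000000000000100000000000000000000000000000000000000010000000000000002000000000000000000000000000000010000000200000002000000000000000000000000000000000000000000000000000000000000000000000000000000000000000000000000000000000000000100000014)))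 (TN.node (TN.leaf (nat_lit 0x200000000000000000000000000000000000000000000000000000000000000000000000000000000000000000000000000000000000000000000000000000000000000000000000100000002000000020000000000000000000000000000000000000000000000000000000000000000000000020000000000000000000000000000000000000000000000000000000000000001000000000000000000000000000000000000000c)) (TN.leaf (nat_lit 0x200000002000000010000000000000000000000000000000000000000000000000000000000000000000000000000000000000000000000000000000100000002000000010000000200000000000000010000000000000001000000000000000100000001000000000000000000000001000000000000000000000000000000000000000000000000000000020000000100000001000000010000000000000000000000010000001c)))) (TN.node (TN.node (TN.leaf (nat_lit 0x100000000000000000000000000000000000000000000000200000008)) (TN.leaf (nat_lit 0x10000000200000000000000000000000000000000000000000000000000000002000000020000000000000001000000020000000200000000000000000000000000000001000000000000000000000000000000000000000000000002000000020000000000000000000000000000000000000002000000010000000100000000000000020000000000000018)))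 (TN.leaf (nat_lit 0x1000000000000000200000000000000000000000000000002000000020000000100000000000000000000000000000000000000000000000000000000000000000000000000000000000000010000000000000000000000010000000100000010)))))
def D_t : TN := (TN.node D_t1 D_t2)
noncomputable def D (i : ℕ) : ℕ := TN.get D_t i
def La_t1 : TN := (TN.node (TN.node (TN.node (TN.node (TN.leaf (nat_lit 0x20000000000)) (TN.leaf (nat_lit 2))) (TN.node (TN.leaf (nat_lit 0x200000000)) (TN.leaf (nat_lit 131072)))) (TN.node (TN.node (TN.leaf (nat_lit 0x2000000)) (TN.leaf (nat_lit 512))) (TN.leaf (nat_lit 0x200020000000000)))) (TN.node (TN.node (TN.node (TN.leaf (nat_lit 0)) (TN.leaf (nat_lit 0))) (TN.node (TN.leaf (nat_lit 0)) (TN.leaf (nat_lit 0)))) (TN.node (TN.node (TN.leaf (nat_lit 0)) (TN.leaf (nat_lit 0))) (TN.leaf (nat_lit 0)))))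
def La_t2 : TN := (TN.node (TN.node (TN.node (TN.node (TN.leaf (nat_lit 0)) (TN.leaf (nat_lit 0))) (TN.node (TN.leaf (nat_lit 0)) (TN.leaf (nat_lit 0)))) (TN.node (TN.node (TN.leaf (nat_lit 0)) (TN.leaf (nat_lit 0))) (TN.leaf (nat_lit 0)))) (TN.node (TN.node (TN.node (TN.leaf (nat_lit 0)) (TN.leaf (nat_lit 0))) (TN.node (TN.leaf (nat_lit 0)) (TN.leaf (nat_lit 0)))) (TN.node (TN.node (TN.leaf (nat_lit 0)) (TN.leaf (nat_lit 0))) (TN.leaf (nat_lit 0)))))
def La_t3 : TN := (TN.node La_t1 La_t2)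
def La_t4 : TN := (TN.node (TN.node (TN.node (TN.node (TN.leaf (nat_lit 0)) (TN.leaf (nat_lit 0x1000001020200000200000001000002010001020002))) (TN.node (TN.leaf (nat_lit 0)) (TN.leaf (nat_lit 0x1010201010000020100000002020202000101000202000101020102020202)))) (TN.node (TN.node (TN.leaf (nat_lit 0)) (TN.leaf (nat_lit 0))) (TN.leaf (nat_lit 0)))) (TN.node (TN.node (TN.node (TN.leaf (nat_lit 0)) (TN.leaf (nat_lit 0))) (TN.node (TN.leaf (nat_lit 0)) (TN.leaf (nat_lit 0)))) (TN.node (TN.node (TN.leaf (nat_lit 0)) (TN.leaf (nat_lit 0))) (TN.leaf (nat_lit 0)))))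
def La_t5 : TN := (TN.node (TN.node (TN.node (TN.node (TN.leaf (nat_lit 0)) (TN.leaf (nat_lit 0))) (TN.node (TN.leaf (nat_lit 0)) (TN.leaf (nat_lit 0)))) (TN.node (TN.node (TN.leaf (nat_lit 0)) (TN.leaf (nat_lit 0))) (TN.leaf (nat_lit 0)))) (TN.node (TN.node (TN.node (TN.leaf (nat_lit 0)) (TN.leaf (nat_lit 0))) (TN.node (TN.leaf (nat_lit 0)) (TN.leaf (nat_lit 0)))) (TN.node (TN.node (TN.leaf (nat_lit 0)) (TN.leaf (nat_lit 0))) (TN.leaf (nat_lit 0)))))
def La_t6 : TN := (TN.node La_t4 La_t5)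
def La_t7 : TN := (TN.node La_t3 La_t6)
def La_t8 : TN := (TN.node (TN.node (TN.node (TN.node (TN.leaf (nat_lit 0)) (TN.leaf (nat_lit 0x200020201000000000000010000000102))) (TN.node (TN.leaf (nat_lit 0x10001010000000000)) (TN.leaf (nat_lit 0x100020101000201000000000201020001)))) (TN.node (TN.node (TN.leaf (nat_lit 0)) (TN.leaf (nat_lit 0x200000200000002000000010001000102))) (TN.leaf (nat_lit 0)))) (TN.node (TN.node (TN.node (TN.leaf (nat_lit 0)) (TN.leaf (nat_lit 0))) (TN.node (TN.leaf (nat_lit 0)) (TN.leaf (nat_lit 0)))) (TN.node (TN.node (TN.leaf (nat_lit 0)) (TN.leaf (nat_lit 0))) (TN.leaf (nat_lit 0)))))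
def La_t9 : TN := (TN.node (TN.node (TN.node (TN.node (TN.leaf (nat_lit 0)) (TN.leaf (nat_lit 0))) (TN.node (TN.leaf (nat_lit 0)) (TN.leaf (nat_lit 0)))) (TN.node (TN.node (TN.leaf (nat_lit 0)) (TN.leaf (nat_lit 0))) (TN.leaf (nat_lit 0)))) (TN.node (TN.node (TN.node (TN.leaf (nat_lit 0)) (TN.leaf (nat_lit 0))) (TN.node (TN.leaf (nat_lit 0)) (TN.leaf (nat_lit 0)))) (TN.node (TN.node (TN.leaf (nat_lit 0)) (TN.leaf (nat_lit 0))) (TN.leaf (nat_lit 0)))))
def La_t10 : TN := (TN.node La_t8 La_t9)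
def La_t11 : TN := (TN.node (TN.node (TN.node (TN.node (TN.leaf (nat_lit 0)) (TN.leaf (nat_lit 0))) (TN.node (TN.leaf (nat_lit 0)) (TN.leaf (nat_lit 0x2010102010002010001020002000002000001000200)))) (TN.node (TN.node (TN.leaf (nat_lit 0)) (TN.leaf (nat_lit 0))) (TN.leaf (nat_lit 0)))) (TN.node (TN.node (TN.node (TN.leaf (nat_lit 0)) (TN.leaf (nat_lit 0))) (TN.node (TN.leaf (nat_lit 0)) (TN.leaf (nat_lit 0)))) (TN.node (TN.node (TN.leaf (nat_lit 0)) (TN.leaf (nat_lit 0))) (TN.leaf (nat_lit 0)))))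
def La_t12 : TN := (TN.node (TN.node (TN.node (TN.node (TN.leaf (nat_lit 0)) (TN.leaf (nat_lit 0))) (TN.node (TN.leaf (nat_lit 0)) (TN.leaf (nat_lit 0)))) (TN.node (TN.node (TN.leaf (nat_lit 0)) (TN.leaf (nat_lit 0))) (TN.leaf (nat_lit 0)))) (TN.node (TN.node (TN.node (TN.leaf (nat_lit 0)) (TN.leaf (nat_lit 0))) (TN.node (TN.leaf (nat_lit 0)) (TN.leaf (nat_lit 0)))) (TN.node (TN.node (TN.leaf (nat_lit 0)) (TN.leaf (nat_lit 0))) (TN.leaf (nat_lit 0)))))
def La_t13 : TN := (TN.node La_t11 La_t12)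
def La_t14 : TN := (TN.node La_t10 La_t13)
def La_t15 : TN := (TN.node La_t7 La_t14)
def La_t16 : TN := (TN.node (TN.node (TN.node (TN.node (TN.leaf (nat_lit 0)) (TN.leaf (nat_lit 0x2020000020001010000000000000102000101))) (TN.node (TN.leaf (nat_lit 0x2000000000001000000)) (TN.leaf (nat_lit 0x1020100020101010000000000000200020101)))) (TN.node (TN.node (TN.leaf (nat_lit 0x10002020000000000)) (TN.leaf (nat_lit 0x201020201000201000000010200000102))) (TN.leaf (nat_lit 0x10102000002000200010001000100)))) (TN.node (TN.node (TN.node (TN.leaf (nat_lit 0)) (TN.leaf (nat_lit 0))) (TN.node (TN.leaf (nat_lit 0)) (TN.leaf (nat_lit 0)))) (TN.node (TN.node (TN.leaf (nat_lit 0)) (TN.leaf (nat_lit 0))) (TN.leaf (nat_lit 0)))))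
def La_t17 : TN := (TN.node (TN.node (TN.node (TN.node (TN.leaf (nat_lit 0)) (TN.leaf (nat_lit 0))) (TN.node (TN.leaf (nat_lit 0)) (TN.leaf (nat_lit 0)))) (TN.node (TN.node (TN.leaf (nat_lit 0)) (TN.leaf (nat_lit 0))) (TN.leaf (nat_lit 0)))) (TN.node (TN.node (TN.node (TN.leaf (nat_lit 0)) (TN.leaf (nat_lit 0))) (TN.node (TN.leaf (nat_lit 0)) (TN.leaf (nat_lit 0)))) (TN.node (TN.node (TN.leaf (nat_lit 0)) (TN.leaf (nat_lit 0))) (TN.leaf (nat_lit 0)))))
def La_t18 : TN := (TN.node La_t16 La_t17)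
def La_t19 : TN := (TN.node (TN.node (TN.node (TN.node (TN.leaf (nat_lit 0)) (TN.leaf (nat_lit 0))) (TN.node (TN.leaf (nat_lit 0)) (TN.leaf (nat_lit 0x1020000000200020000000001020202020102010102010000000102020202)))) (TN.node (TN.node (TN.leaf (nat_lit 0)) (TN.leaf (nat_lit 0x1010202010100020102000000000000020200000101))) (TN.leaf (nat_lit 0)))) (TN.node (TN.node (TN.node (TN.leaf (nat_lit 0)) (TN.leaf (nat_lit 0))) (TN.node (TN.leaf (nat_lit 0)) (TN.leaf (nat_lit 0)))) (TN.node (TN.node (TN.leaf (nat_lit 0)) (TN.leaf (nat_lit 0))) (TN.leaf (nat_lit 0)))))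
def La_t20 : TN := (TN.node (TN.node (TN.node (TN.node (TN.leaf (nat_lit 0)) (TN.leaf (nat_lit 0))) (TN.node (TN.leaf (nat_lit 0)) (TN.leaf (nat_lit 0)))) (TN.node (TN.node (TN.leaf (nat_lit 0)) (TN.leaf (nat_lit 0))) (TN.leaf (nat_lit 0)))) (TN.node (TN.node (TN.node (TN.leaf (nat_lit 0)) (TN.leaf (nat_lit 0))) (TN.node (TN.leaf (nat_lit 0)) (TN.leaf (nat_lit 0)))) (TN.node (TN.node (TN.leaf (nat_lit 0)) (TN.leaf (nat_lit 0))) (TN.leaf (nat_lit 0)))))
def La_t21 : TN := (TN.node La_t19 La_t20)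
def La_t22 : TN := (TN.node La_t18 La_t21)
def La_t23 : TN := (TN.node (TN.node (TN.node (TN.node (TN.leaf (nat_lit 0)) (TN.leaf (nat_lit 0x1000201020200020100000001020100010101000202010001000001000200))) (TN.node (TN.leaf (nat_lit 0)) (TN.leaf (nat_lit 0x1010102010000020200000002010000020202000101020100000101020101)))) (TN.node (TN.node (TN.leaf (nat_lit 0)) (TN.leaf (nat_lit 0))) (TN.leaf (nat_lit 0x2000000010001020101010202000201010100020102010001)))) (TN.node (TN.node (TN.node (TN.leaf (nat_lit 0)) (TN.leaf (nat_lit 0))) (TN.node (TN.leaf (nat_lit 0)) (TN.leaf (nat_lit 0)))) (TN.node (TN.node (TN.leaf (nat_lit 0)) (TN.leaf (nat_lit 0))) (TN.leaf (nat_lit 0)))))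
def La_t24 : TN := (TN.node (TN.node (TN.node (TN.node (TN.leaf (nat_lit 0)) (TN.leaf (nat_lit 0))) (TN.node (TN.leaf (nat_lit 0)) (TN.leaf (nat_lit 0)))) (TN.node (TN.node (TN.leaf (nat_lit 0)) (TN.leaf (nat_lit 0))) (TN.leaf (nat_lit 0)))) (TN.node (TN.node (TN.node (TN.leaf (nat_lit 0)) (TN.leaf (nat_lit 0))) (TN.node (TN.leaf (nat_lit 0)) (TN.leaf (nat_lit 0)))) (TN.node (TN.node (TN.leaf (nat_lit 0)) (TN.leaf (nat_lit 0))) (TN.leaf (nat_lit 0)))))
def La_t25 : TN := (TN.node La_t23 La_t24)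
def La_t26 : TN := (TN.node (TN.node (TN.node (TN.node (TN.leaf (nat_lit 0)) (TN.leaf (nat_lit 0))) (TN.node (TN.leaf (nat_lit 0)) (TN.leaf (nat_lit 0)))) (TN.node (TN.node (TN.leaf (nat_lit 0)) (TN.leaf (nat_lit 0))) (TN.leaf (nat_lit 0)))) (TN.node (TN.node (TN.node (TN.leaf (nat_lit 0)) (TN.leaf (nat_lit 0))) (TN.node (TN.leaf (nat_lit 0)) (TN.leaf (nat_lit 0)))) (TN.node (TN.node (TN.leaf (nat_lit 0)) (TN.leaf (nat_lit 0))) (TN.leaf (nat_lit 0)))))
def La_t27 : TN := (TN.node (TN.node (TN.node (TN.node (TN.leaf (nat_lit 0)) (TN.leaf (nat_lit 0))) (TN.node (TN.leaf (nat_lit 0)) (TN.leaf (nat_lit 0)))) (TN.node (TN.node (TN.leaf (nat_lit 0)) (TN.leaf (nat_lit 0))) (TN.leaf (nat_lit 0)))) (TN.node (TN.node (TN.node (TN.leaf (nat_lit 0)) (TN.leaf (nat_lit 0))) (TN.node (TN.leaf (nat_lit 0)) (TN.leaf (nat_lit 0)))) (TN.node (TN.node (TN.leaf (nat_lit 0)) (TN.leaf (nat_lit 0))) (TN.leaf (nat_lit 0)))))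
def La_t28 : TN := (TN.node La_t26 La_t27)
def La_t29 : TN := (TN.node La_t25 La_t28)
def La_t30 : TN := (TN.node La_t22 La_t29)
def La_t : TN := (TN.node La_t15 La_t30)
noncomputable def La (i : ℕ) : ℕ := TN.get La_t i
def Le_t : TN := (TN.leaf (nat_lit 0))
noncomputable def Le (i : ℕ) : ℕ := TN.get Le_t i
def C_t1 : TN := (TN.node (TN.node (TN.node (TN.node (TN.leaf (nat_lit 0)) (TN.leaf (nat_lit 0))) (TN.node (TN.leaf (nat_lit 0)) (TN.leaf (nat_lit 0)))) (TN.node (TN.node (TN.leaf (nat_lit 0)) (TN.leaf (nat_lit 0))) (TN.node (TN.leaf (nat_lit 0)) (TN.leaf (nat_lit 0))))) (TN.node (TN.node (TN.node (TN.leaf (nat_lit 0)) (TN.leaf (nat_lit 0))) (TN.node (TN.leaf (nat_lit 0)) (TN.leaf (nat_lit 0)))) (TN.node (TN.node (TN.leaf (nat_lit 0)) (TN.leaf (nat_lit 0))) (TN.node (TN.leaf (nat_lit 0)) (TN.leaf (nat_lit 0))))))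
def C_t2 : TN := (TN.node (TN.node (TN.node (TN.node (TN.leaf (nat_lit 0x10000000000000000000000000000000000000000000000000000000000000000000000000000000000000001000000000000000000000000000000000000000000000000000000000000000000000000)) (TN.leaf (nat_lit 0))) (TN.node (TN.leaf (nat_lit 0)) (TN.leaf (nat_lit 0)))) (TN.node (TN.node (TN.leaf (nat_lit 0)) (TN.leaf (nat_lit 0))) (TN.node (TN.leaf (nat_lit 0)) (TN.leaf (nat_lit 0))))) (TN.node (TN.node (TN.node (TN.leaf (nat_lit 0)) (TN.leaf (nat_lit 0))) (TN.node (TN.leaf (nat_lit 0)) (TN.leaf (nat_lit 0)))) (TN.node (TN.node (TN.leaf (nat_lit 0)) (TN.leaf (nat_lit 0))) (TN.node (TN.leaf (nat_lit 0)) (TN.leaf (nat_lit 0))))))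
def C_t3 : TN := (TN.node C_t1 C_t2)
def C_t4 : TN := (TN.node (TN.node (TN.node (TN.node (TN.leaf (nat_lit 0x1000000000000000000000000000000000000000000000000000000000000000000000000)) (TN.leaf (nat_lit 0))) (TN.node (TN.leaf (nat_lit 0)) (TN.leaf (nat_lit 0)))) (TN.node (TN.node (TN.leaf (nat_lit 0)) (TN.leaf (nat_lit 0))) (TN.node (TN.leaf (nat_lit 0)) (TN.leaf (nat_lit 0))))) (TN.node (TN.node (TN.node (TN.leaf (nat_lit 0)) (TN.leaf (nat_lit 0))) (TN.node (TN.leaf (nat_lit 0)) (TN.leaf (nat_lit 0)))) (TN.node (TN.node (TN.leaf (nat_lit 0)) (TN.leaf (nat_lit 0))) (TN.node (TN.leaf (nat_lit 0)) (TN.leaf (nat_lit 0))))))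
def C_t5 : TN := (TN.node (TN.node (TN.node (TN.node (TN.leaf (nat_lit 0x200000000000000000000000000000000000000000000000000000000000000000000000000000001000000000000000000000000000000000000000000000000000000000000000000000000)) (TN.leaf (nat_lit 0))) (TN.node (TN.leaf (nat_lit 0)) (TN.leaf (nat_lit 0)))) (TN.node (TN.node (TN.leaf (nat_lit 0)) (TN.leaf (nat_lit 0))) (TN.node (TN.leaf (nat_lit 0)) (TN.leaf (nat_lit 0))))) (TN.node (TN.node (TN.node (TN.leaf (nat_lit 0)) (TN.leaf (nat_lit 0))) (TN.node (TN.leaf (nat_lit 0)) (TN.leaf (nat_lit 0)))) (TN.node (TN.node (TN.leaf (nat_lit 0)) (TN.leaf (nat_lit 0))) (TN.node (TN.leaf (nat_lit 0)) (TN.leaf (nat_lit 0))))))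
def C_t6 : TN := (TN.node C_t4 C_t5)
def C_t : TN := (TN.node C_t3 C_t6)
noncomputable def C (i : ℕ) : ℕ := TN.get C_t i
def e (i : ℕ) : ℕ := Nat.land (Nat.shiftRight (nat_lit 0) (Nat.mul (nat_lit 1) i)) (nat_lit 1)
def U_t : TL := (TL.node (TL.node (TL.node (TL.node (TL.node (TL.leaf [nat_lit 5]) (TL.leaf [nat_lit 4])) (TL.node (TL.leaf [nat_lit 9]) (TL.leaf [nat_lit 8]))) (TL.node (TL.node (TL.leaf [nat_lit 3]) (TL.leaf [nat_lit 9])) (TL.node (TL.leaf [nat_lit 8]) (TL.leaf [nat_lit 9])))) (TL.node (TL.node (TL.node (TL.leaf [nat_lit 7]) (TL.leaf [nat_lit 5])) (TL.node (TL.leaf [nat_lit 8]) (TL.leaf [nat_lit 8]))) (TL.node (TL.node (TL.leaf [nat_lit 9]) (TL.leaf [nat_lit 9])) (TL.node (TL.leaf [nat_lit 8]) (TL.leaf [nat_lit 8]))))) (TL.node (TL.node (TL.node (TL.node (TL.leaf [nat_lit 6]) (TL.leaf [nat_lit 9])) (TL.node (TL.leaf [nat_lit 2]) (TL.leaf [nat_lit 8]))) (TL.node (TL.node (TL.leaf [nat_lit 3]) (TL.leaf [nat_lit 9])) (TL.node (TL.leaf [nat_lit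 9]) (TL.leaf [nat_lit 8])))) (TL.node (TL.node (TL.node (TL.leaf [nat_lit 2]) (TL.leaf [nat_lit 8])) (TL.node (TL.leaf [nat_lit 9]) (TL.leaf [nat_lit 9]))) (TL.node (TL.node (TL.leaf [nat_lit 4]) (TL.leaf [nat_lit 8])) (TL.leaf [nat_lit 9])))))
noncomputable def U (i : ℕ) : List ℕ := TL.get U_t i
def V1_t : TL := (TL.node (TL.node (TL.node (TL.node (TL.node (TL.leaf [nat_lit 5, nat_lit 5, nat_lit 5]) (TL.leaf [nat_lit 5, nat_lit 6])) (TL.node (TL.leaf [nat_lit 3, nat_lit 3, nat_lit 3]) (TL.leaf [nat_lit 4, nat_lit 4, nat_lit 4]))) (TL.node (TL.node (TL.leaf [nat_lit 5, nat_lit 5, nat_lit 5]) (TL.leaf [nat_lit 6, nat_lit 6, nat_lit 6])) (TL.node (TL.leaf [nat_lit 3, nat_lit 7]) (TL.leaf [nat_lit 5, nat_lit 7])))) (TL.node (TL.node (TL.node (TL.leaf [nat_lit 7, nat_lit 7, nat_lit 7]) (TL.leaf [nat_lit 6, nat_lit 7])) (TL.node (TL.leaf [nat_lit 3, nat_lit 5]) (TL.leaf [nat_lit 5, nat_lit 7]))) (TL.node (TL.node (TL.leaf [nat_lit 2, nat_lit 2, nat_lit 2])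 (TL.leaf [nat_lit 6, nat_lit 7])) (TL.node (TL.leaf [nat_lit 3, nat_lit 4]) (TL.leaf [nat_lit 4, nat_lit 7]))))) (TL.node (TL.node (TL.node (TL.node (TL.leaf [nat_lit 6, nat_lit 6, nat_lit 6]) (TL.leaf [nat_lit 3, nat_lit 7])) (TL.node (TL.leaf [nat_lit 4, nat_lit 6]) (TL.leaf [nat_lit 4, nat_lit 5]))) (TL.node (TL.node (TL.leaf [nat_lit 4, nat_lit 4, nat_lit 4]) (TL.leaf [nat_lit 7, nat_lit 7, nat_lit 7])) (TL.node (TL.leaf [nat_lit 2, nat_lit 4]) (TL.leaf [nat_lit 4, nat_lit 6])))) (TL.node (TL.node (TL.node (TL.leaf [nat_lit 6, nat_lit 6, nat_lit 6]) (TL.leaf [nat_lit 5, nat_lit 5, nat_lit 5])) (TL.node (TL.leaf [nat_lit 2, nat_lit 7]) (TL.leaf [nat_lit 4, nat_lit 7]))) (TL.node (TL.node (TL.leaf [nat_lit 5, nat_lit 5, nat_lit 5]) (TL.leaf [nat_lit 5, nat_lit 6])) (TL.leaf [nat_lit 2, nat_lit 6])))))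
noncomputable def V1 (i : ℕ) : List ℕ := TL.get V1_t i
def V2_t : TL := (TL.node (TL.node (TL.node (TL.node (TL.node (TL.leaf [nat_lit 1]) (TL.leaf [nat_lit 6, nat_lit 5, nat_lit 2, nat_lit 1, nat_lit 1])) (TL.node (TL.leaf []) (TL.leaf []))) (TL.node (TL.node (TL.leaf [nat_lit 1]) (TL.leaf [nat_lit 1])) (TL.node (TL.leaf [nat_lit 7, nat_lit 3, nat_lit 1]) (TL.leaf [nat_lit 7, nat_lit 5, nat_lit 3, nat_lit 3, nat_lit 1, nat_lit 1])))) (TL.node (TL.node (TL.node (TL.leaf [nat_lit 1]) (TL.leaf [nat_lit 7, nat_lit 6, nat_lit 2, nat_lit 2, nat_lit 1, nat_lit 1])) (TL.node (TL.leaf [nat_lit 5, nat_lit 3]) (TL.leaf [nat_lit 7, nat_lit 5, nat_lit 3, nat_lit 3, nat_lit 1, nat_lit 1]))) (TL.node (TL.node (TL.leaf []) (TL.leaf [nat_lit 7, nat_lit 6, nat_lit 2, nat_lit 2, nat_lit 1, nat_lit 1])) (TL.node (TL.leaf [nat_lit 4, nat_lit 3, nat_lit 1]) (TL.leaf [nat_lit 7, nat_lit 4, nat_lit 3, nat_lit 3, nat_lit 2, nat_lit 1]))))) (TL.node (TL.node (TL.node (TL.node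 (TL.leaf [nat_lit 1]) (TL.leaf [nat_lit 7, nat_lit 3, nat_lit 1])) (TL.node (TL.leaf [nat_lit 6, nat_lit 4, nat_lit 3, nat_lit 3, nat_lit 1]) (TL.leaf [nat_lit 5, nat_lit 4, nat_lit 1, nat_lit 1]))) (TL.node (TL.node (TL.leaf []) (TL.leaf [nat_lit 1])) (TL.node (TL.leaf [nat_lit 4, nat_lit 2]) (TL.leaf [nat_lit 6, nat_lit 4, nat_lit 3, nat_lit 3, nat_lit 1])))) (TL.node (TL.node (TL.node (TL.leaf [nat_lit 1]) (TL.leaf [nat_lit 1])) (TL.node (TL.leaf [nat_lit 7, nat_lit 2, nat_lit 1]) (TL.leaf [nat_lit 7, nat_lit 4, nat_lit 3, nat_lit 3, nat_lit 2, nat_lit 1]))) (TL.node (TL.node (TL.leaf [nat_lit 1]) (TL.leaf [nat_lit 6, nat_lit 5, nat_lit 2, nat_lit 1, nat_lit 1])) (TL.leaf [nat_lit 6, nat_lit 2])))))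
noncomputable def V2 (i : ℕ) : List ℕ := TL.get V2_t i
def Y_t : TL := (TL.node (TL.node (TL.node (TL.leaf [nat_lit 7, nat_lit 5, nat_lit 5, nat_lit 4, nat_lit 3, nat_lit 2, nat_lit 2]) (TL.leaf [nat_lit 6, nat_lit 6, nat_lit 5, nat_lit 5, nat_lit 1, nat_lit 1])) (TL.node (TL.leaf [nat_lit 1]) (TL.leaf [nat_lit 6, nat_lit 4, nat_lit 4, nat_lit 2, nat_lit 2, nat_lit 1, nat_lit 1]))) (TL.node (TL.node (TL.leaf [nat_lit 7, nat_lit 7, nat_lit 6, nat_lit 5, nat_lit 5, nat_lit 4, nat_lit 4, nat_lit 1, nat_lit 1]) (TL.leaf [nat_lit 7, nat_lit 7, nat_lit 6, nat_lit 6, nat_lit 5, nat_lit 5, nat_lit 4, nat_lit 4, nat_lit 3, nat_lit 3, nat_lit 2, nat_lit 1])) (TL.leaf [nat_lit 6, nat_lit 5, nat_lit 3, nat_lit 3, nat_lit 1, nat_lit 1])))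
noncomputable def Y (i : ℕ) : List ℕ := TL.get Y_t i
def O_t : TL := (TL.node (TL.node (TL.node (TL.leaf [nat_lit 2]) (TL.leaf [nat_lit 0, nat_lit 122, nat_lit 346, nat_lit 119, nat_lit 13, nat_lit 180, nat_lit 296, nat_lit 100, nat_lit 259])) (TL.node (TL.leaf [nat_lit 0]) (TL.leaf [nat_lit 28]))) (TL.node (TL.node (TL.leaf [nat_lit 1]) (TL.leaf [nat_lit 102])) (TL.leaf [nat_lit 0, nat_lit 122, nat_lit 119])))
noncomputable def O (i : ℕ) : List ℕ := TL.get O_t i
noncomputable def f1 : ℕ → ℕ := rvE Q B (nat_lit 17) Ru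
noncomputable def f2 (j : ℕ) : ℕ := rlE I Ru (nat_lit 43) (nat_lit 3) (U j) (V1 j) (V2 j) (D j)
noncomputable def f3 : ℕ → ℕ := tgR I Ru (nat_lit 43) (nat_lit 3) (nat_lit 3) C D (nat_lit 31) La
noncomputable def f4 : ℕ → ℕ := chE Q B (nat_lit 552) (nat_lit 17) (nat_lit 7) (nat_lit 10) Y O
theorem ra0 : Nat.beq (rng f1 (nat_lit 0) (nat_lit 43)) (nat_lit 0) = true := by decide +kernel
theorem rb0 : Nat.beq (rng f2 (nat_lit 0) (nat_lit 31)) (nat_lit 0) = true := by decide +kernel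
theorem rc0 : Nat.beq (rng f3 (nat_lit 0) (nat_lit 7)) (nat_lit 0) = true := by decide +kernel
theorem rd0 : Nat.beq (rng f4 (nat_lit 0) (nat_lit 7)) (nat_lit 0) = true := by decide +kernel
theorem h1 : ∀ i < 43, f1 i = 0 := by
  have h := zero_lt_zero f1
  have h := zero_lt_add (a := (nat_lit 0)) (n := (nat_lit 43)) (b := (nat_lit 43)) h ra0 rfl
  exact h
theorem h2 : ∀ i < 31, f2 i = 0 := by
  have h := zero_lt_zero f2
  have h := zero_lt_add (a := (nat_lit 0)) (n := (nat_lit 31)) (b := (nat_lit 31)) h rb0 rfl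
  exact h
theorem h3 : ∀ i < 7, f3 i = 0 := by
  have h := zero_lt_zero f3
  have h := zero_lt_add (a := (nat_lit 0)) (n := (nat_lit 7)) (b := (nat_lit 7)) h rc0 rfl
  exact h
theorem h4 : ∀ i < 7, f4 i = 0 := by
  have h := zero_lt_zero f4
  have h := zero_lt_add (a := (nat_lit 0)) (n := (nat_lit 7)) (b := (nat_lit 7)) h rd0 rfl
  exact h
theorem nok : NoK (Cfsg.Spor.Co3) (3 ^ (0 + 1)) := fun _ _ _ _ h =>
  (md.rv (I := I) (K := 43) rfl ⟨rfl, by decide⟩ (upTo_beq (by decide +kernel)) h1).core h (by norm_num)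
    (md.syl (by norm_num) rfl (by decide) h4) (by rw [Co3.card]; decide) (n := 3) (s := 0) (e := e) (L := Le) (C := C)
    ⟨rfl, by decide, rfl, by decide, by decide, rfl, by decide⟩ h2 (upTo_beq (by decide +kernel)) (upTo_beq (by decide +kernel)) h3

end Cfsg.Agent.Ct.Co3s.S3
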